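import Groth.Agent.Lib.RelAmp22.Stalk
import Groth.Agent.Lib.OX.PCohTriangle
import Groth.Agent.Lib.OX.PerfectCriterion

/-!
# Objects perfect relative to the base: triangles, retracts, perfect objects
-/

set_option autoImplicit false
set_option maxHeartbeats 800000
universe u

open CategoryTheory CategoryTheory.Limits AlgebraicGeometry HomologicalComplex CategoryTheory.Pretriangulated ZeroObject

attribute [local instance] HasDerivedCategory.standard

namespace GrothLib.RelAmp22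

open GrothLib.OX

variable {X S : Scheme.{u}} (f : X ⟶ S)

theorem ampAt_obj₂ {T : Triangle (DCoh.D X)} (hT : T ∈ distTriang _) {a b : ℤ} {x : X}
    (h₁ : AmpAt f a b T.obj₁ x) (h₃ : AmpAt f a b T.obj₃ x) : AmpAt f a b T.obj₂ x :=
  GrothLib.DR.hasTorAmplitudeIn_obj₂ _ ((relStalk f x).mapDerivedCategory.map_distinguished T hT) h₁ h₃

theorem ampAt_shift {K : DCoh.D X} {a b : ℤ} {x : X} (h : AmpAt f a b K x) (n : ℤ) :
    AmpAt f (a - n) (b - n) (K⟦n⟧) x :=
  GrothLib.KSix19.amp_of_iso (((relStalk f x).mapDerivedCategory.commShiftIso n).app K).symm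
    (GrothLib.DR.hasTorAmplitudeIn_shift h n _ _ (by omega) (by omega))

theorem ampAt_retract {K L : DCoh.D X} (s : K ⟶ L) (r : L ⟶ K) (h : s ≫ r = 𝟙 K) {a b : ℤ} {x : X}
    (hL : AmpAt f a b L x) : AmpAt f a b K x :=
  GrothLib.DR.hasTorAmplitudeIn_of_retract ((relStalk f x).mapDerivedCategory.map s)
    ((relStalk f x).mapDerivedCategory.map r)
    (by rw [← Functor.map_comp, h, CategoryTheory.Functor.map_id]) hL

theorem isPseudoCoherentD_retract {m : ℤ} {K L : DCoh.D X} (s : K ⟶ L) (r : L ⟶ K) (h : s ≫ r = 𝟙 K)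
    (hL : DCoh.IsPseudoCoherentD m L) : DCoh.IsPseudoCoherentD m K := by
  obtain ⟨C, v, w, hC⟩ := distinguished_cocone_triangle s
  haveI : IsSplitMono s := ⟨⟨⟨r, h⟩⟩⟩
  obtain ⟨i, -, -⟩ := exists_iso_binaryBiproduct_of_distTriang _ hC
    ((Triangle.mor₃_eq_zero_iff_mono₁ _ hC).2 (inferInstanceAs (Mono s)))
  exact (isPseudoCoherentD_biprod (isPseudoCoherentD_of_iso hL i)).1

theorem flatOver_of_flat [Flat f] {M : X.Modules} (hM : FlatMod.IsFlat M) : FlatMod.IsFlatOver f M := fun x => by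
  refine (flatOver_iff_relStalk f _ x).2 ?_
  letI := (f.stalkMap x).hom.toAlgebra
  have h1 : Module.Flat (X.presheaf.stalk x) ((stalk x).obj M) := (GrothLib.OX.flat_iff _).1 hM x
  have h2 : Module.Flat (S.presheaf.stalk (f x)) (X.presheaf.stalk x) := Flat.stalkMap f x
  letI : Module (S.presheaf.stalk (f x)) ((stalk x).obj M) := Module.compHom _ (f.stalkMap x).hom
  haveI : IsScalarTower (S.presheaf.stalk (f x)) (X.presheaf.stalk x) ((stalk x).obj M) :=
    IsScalarTower.of_algebraMap_smul fun _ _ => rfl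
  exact Module.Flat.trans (S.presheaf.stalk (f x)) (X.presheaf.stalk x) ((stalk x).obj M)

/-- Amplitude at the points of an open, read on a restriction. -/
theorem ampAt_of_resD {U : Scheme.{u}} (j : U ⟶ X) [IsOpenImmersion j] {a b : ℤ} {K : DCoh.D X}
    {E : CochainComplex U.Modules ℤ} (hE : DCoh.VanishesOutside E a b)
    (hfl : ∀ i, FlatMod.IsFlatOver (j ≫ f) (E.X i)) (e : DerivedCategory.Q.obj E ≅ (resD j).obj K) (y : U) :
    AmpAt f a b K (j y) :=
  (ampAt_resD_iff f j K y).1 (ampAt_of_relFlat (j ≫ f) ⟨E, hE, hfl, ⟨e⟩⟩ y)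

theorem locTor_of_isPerfect [Flat f] {K : DCoh.D X} (hK : DCoh.IsPerfect K) :
    DCoh.LocHasFiniteRelTorDim f K := by
  refine (locHasFiniteRelTorDim_iff f K).2 fun x => ?_
  obtain ⟨U, j, hj, hx, E, hE, ⟨e⟩⟩ := isPerfect_iff.1 hK x
  obtain ⟨⟨a, b, hab⟩, hfin⟩ := hE
  refine ⟨j.opensRange, a, b, hx, ?_⟩
  rintro _ ⟨y, rfl⟩
  exact ampAt_of_resD f j hab (fun i => flatOver_of_flat (j ≫ f) (flat_of_isFinLocFree (hfin i))) e y

/-- Perfect relative to the base. -/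
abbrev RelPerf (K : DCoh.D X) : Prop :=
  (∀ m : ℤ, DCoh.IsPseudoCoherentD m K) ∧ DCoh.LocHasFiniteRelTorDim f K

theorem relPerf_of_isPerfect [Flat f] {K : DCoh.D X} (hK : DCoh.IsPerfect K) : RelPerf f K :=
  ⟨fun m => isPseudoCoherentD_of_isPerfect hK m, locTor_of_isPerfect f hK⟩

theorem relPerf_of_iso [Flat f] {K L : DCoh.D X} (e : K ≅ L) (h : RelPerf f K) : RelPerf f L :=
  ⟨fun m => isPseudoCoherentD_of_iso (h.1 m) e, (locHasFiniteRelTorDim_iff f L).2 fun x => by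
    obtain ⟨V, a, b, hx, hV⟩ := (locHasFiniteRelTorDim_iff f K).1 h.2 x
    exact ⟨V, a, b, hx, fun y hy => ampAt_of_iso f e (hV y hy)⟩⟩

theorem relPerf_shift [Flat f] {K : DCoh.D X} (h : RelPerf f K) (n : ℤ) : RelPerf f (K⟦n⟧) :=
  ⟨fun m => isPseudoCoherentD_shift (h.1 (n + m)) n m (by omega), (locHasFiniteRelTorDim_iff f _).2 fun x => by
    obtain ⟨V, a, b, hx, hV⟩ := (locHasFiniteRelTorDim_iff f K).1 h.2 x
    exact ⟨V, a - n, b - n, hx, fun y hy => ampAt_shift f (hV y hy) n⟩⟩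

theorem relPerf_obj₂ [Flat f] {T : Triangle (DCoh.D X)} (hT : T ∈ distTriang _) (h₁ : RelPerf f T.obj₁)
    (h₃ : RelPerf f T.obj₃) : RelPerf f T.obj₂ :=
  ⟨fun m => (isPseudoCoherentD_triangle m hT).2.1 (h₁.1 m) (h₃.1 m), (locHasFiniteRelTorDim_iff f _).2 fun x => by
    obtain ⟨V, a, b, hx, hV⟩ := (locHasFiniteRelTorDim_iff f _).1 h₁.2 x
    obtain ⟨W, c, d, hx', hW⟩ := (locHasFiniteRelTorDim_iff f _).1 h₃.2 x
    exact ⟨V ⊓ W, min a c, max b d, ⟨hx, hx'⟩, fun y hy => ampAt_obj₂ f hT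
      (ampAt_mono f (min_le_left _ _) (le_max_left _ _) (hV y hy.1))
      (ampAt_mono f (min_le_right _ _) (le_max_right _ _) (hW y hy.2))⟩⟩

theorem relPerf_retract [Flat f] {K L : DCoh.D X} (s : K ⟶ L) (r : L ⟶ K) (h : s ≫ r = 𝟙 K)
    (hL : RelPerf f L) : RelPerf f K :=
  ⟨fun m => isPseudoCoherentD_retract s r h (hL.1 m), (locHasFiniteRelTorDim_iff f _).2 fun x => by
    obtain ⟨V, a, b, hx, hV⟩ := (locHasFiniteRelTorDim_iff f L).1 hL.2 x
    exact ⟨V, a, b, hx, fun y hy => ampAt_retract f s r h (hV y hy)⟩⟩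

theorem relPerf_zero [Flat f] {Z : DCoh.D X} (hZ : IsZero Z) : RelPerf f Z := by
  refine relPerf_of_isPerfect f (isPerfect_iff.2 fun x => ⟨X, 𝟙 X, inferInstance, ⟨x, rfl⟩,
    0, ⟨⟨0, 0, fun i _ => (HomologicalComplex.eval _ _ i).map_isZero (isZero_zero _)⟩,
      fun i => ?_⟩, ⟨?_⟩⟩)
  · exact DCoh.isFinLocFree_of_isZero ((HomologicalComplex.eval _ _ i).map_isZero (isZero_zero _))
  · exact ((DerivedCategory.Q (C := X.Modules)).map_isZero (isZero_zero _)).iso ((resD (𝟙 X)).map_isZero hZ)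

end GrothLib.RelAmp22
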