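import Groth.Agent.Lib.RelAmp22.Affine
import Groth.Agent.Lib.RelAmp22.Triangle
import Groth.Agent.Lib.OX.AffineLocal
import Groth.Agent.Lib.OX.AffineApps
import Groth.Agent.Lib.OX.TildePerfect
import Groth.Prelude.Def_DualSh

/-!
# Relative perfectness on affine charts
-/

set_option autoImplicit false
set_option maxHeartbeats 1000000
set_option linter.style.haveILetI false
universe u

open CategoryTheory CategoryTheory.Limits AlgebraicGeometry HomologicalComplex

attribute [local instance] HasDerivedCategory.standard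

namespace GrothLib.RelAmp22

open GrothLib.OX
open GrothLib.KSix19 (AmpOver)

theorem amp_of_ampOver_bijective {A B : Type u} [CommRing A] [CommRing B] {χ : A →+* B} (hχ : Function.Bijective χ)
    (K : DRing.Cx B) {a b : ℤ} (h : AmpOver χ a b K) : DRing.HasTorAmplitudeIn B a b (DRing.toD K) := by
  let e := RingEquiv.ofBijective χ hχ
  have hinv : Function.Bijective (e.symm : B →+* A) := e.symm.bijective
  have h1 := ampOver_of_bijective hinv _ h
  have h2 := (GrothLib.KSix19.amp_congr (e.symm : B →+* A) χ K a b).2 h1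
  have hc : χ.comp (e.symm : B →+* A) = RingHom.id B := RingHom.ext fun x => e.apply_symm_apply x
  rw [hc] at h2
  exact GrothLib.KSix19.amp_of_iso (DerivedCategory.Q.mapIso
    ((NatIso.mapHomologicalComplex (ModuleCat.restrictScalarsId B) (ComplexShape.up ℤ)).app K ≪≫
      (Functor.mapHomologicalComplexIdIso (ModuleCat.{u} B) (ComplexShape.up ℤ)).app K)) h2

variable {X S S' : Scheme.{u}}

/-- An open immersion of bases does not change relative amplitude. -/
theorem ampAt_comp_openImmersion (g : X ⟶ S') (k : S' ⟶ S) [IsOpenImmersion k] {a b : ℤ} (K : DCoh.D X) (x : X) :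
    AmpAt (g ≫ k) a b K x ↔ AmpAt g a b K x := by
  let F := DerivedCategory.Q.objPreimage K
  let eF : DerivedCategory.Q.obj F ≅ K := DerivedCategory.Q.objObjPreimageIso K
  have hb : Function.Bijective (k.stalkMap (g x)).hom := ConcreteCategory.bijective_of_isIso (k.stalkMap (g x))
  let P := (stalk x).mapHomologicalComplex (ComplexShape.up ℤ)
  have hc : ((g ≫ k).stalkMap x).hom = (g.stalkMap x).hom.comp (k.stalkMap (g x)).hom := by
    rw [Scheme.Hom.stalkMap_comp]; rfl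
  have key : ∀ {a b : ℤ}, AmpOver ((g ≫ k).stalkMap x).hom a b (P.obj F) ↔
      AmpOver (g.stalkMap x).hom a b (P.obj F) := by
    intro a b
    rw [hc]
    exact (GrothLib.KSix19.amp_congr (k.stalkMap (g x)).hom (g.stalkMap x).hom _ a b).trans
      ⟨fun h => amp_of_ampOver_bijective hb _ h, fun h => ampOver_of_bijective hb _ h⟩
  exact ⟨fun h => ampAt_of_iso g eF ((ampAt_Q_iff g F x).2 (key.1 ((ampAt_Q_iff (g ≫ k) F x).1 (ampAt_of_iso _ eF.symm h)))),
    fun h => ampAt_of_iso _ eF ((ampAt_Q_iff (g ≫ k) F x).2 (key.2 ((ampAt_Q_iff g F x).1 (ampAt_of_iso g eF.symm h))))⟩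

variable {f : X ⟶ S} {U : X.Opens} {V : S.Opens}

/-- The amplitude at a point of a chart. -/
theorem ampAt_chart_iff (hU : IsAffineOpen U) (hV : IsAffineOpen V) (hUV : U ≤ f ⁻¹ᵁ V) {a b : ℤ} (K : DCoh.D X)
    (y : Spec Γ(X, U)) :
    AmpAt (specMap (R := Γ(S, V)) (A := Γ(X, U)) (f.appLE V U hUV).hom) a b ((resD hU.fromSpec).obj K) y ↔
      AmpAt f a b K (hU.fromSpec y) := by
  refine (ampAt_comp_openImmersion (specMap (R := Γ(S, V)) (A := Γ(X, U)) (f.appLE V U hUV).hom) hV.fromSpec _ y).symm.trans ?_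
  have h : specMap (R := Γ(S, V)) (A := Γ(X, U)) (f.appLE V U hUV).hom ≫ hV.fromSpec = hU.fromSpec ≫ f :=
    IsAffineOpen.SpecMap_appLE_fromSpec f hV hU hUV
  rw [h]
  exact ampAt_resD_iff f hU.fromSpec K y

/-- Relative perfectness of a chart from relative perfectness. -/
theorem isRelPerfect_chart [Flat f] {K : DCoh.D X} (h : RelPerf f K) (hU : IsAffineOpen U) (hV : IsAffineOpen V)
    (hUV : U ≤ f ⁻¹ᵁ V) [PreservesFiniteLimits (tilde.functor Γ(X, U))] (M : Dual.D Γ(X, U))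
    (e : (resD hU.fromSpec).obj K ≅ (DCoh.tildeD Γ(X, U)).obj M) :
    @Dual2.IsRelPerfect Γ(S, V) Γ(X, U) _ _ (f.appLE V U hUV).hom.toAlgebra M := by
  letI := (f.appLE V U hUV).hom.toAlgebra
  have htor := (locHasFiniteRelTorDim_iff f K).1 h.2
  refine ⟨GrothLib.DR.isPseudoCoherent'_of_forall fun m => (isPseudoCoherentD_tildeD_iff (A := Γ(X, U)) M m).1
    (isPseudoCoherentD_of_iso (isPseudoCoherentD_resD (h.1 m) hU.fromSpec) e), ?_⟩
  choose W a b hx hW using fun y : Spec Γ(X, U) => htor (hU.fromSpec y)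
  obtain ⟨t, ht⟩ := isCompact_univ.elim_finite_subcover
    (fun y => ((hU.fromSpec ⁻¹ᵁ W y : (Spec Γ(X, U)).Opens) : Set (Spec Γ(X, U))))
    (fun y => (hU.fromSpec ⁻¹ᵁ W y).isOpen) fun y _ => Set.mem_iUnion.2 ⟨y, hx y⟩
  obtain ⟨lo, hlo⟩ := (t.image a).bddBelow
  obtain ⟨hi, hhi⟩ := (t.image b).bddAbove
  refine ⟨lo, hi, amp_of_ampAt_tilde (R := Γ(S, V)) (A := Γ(X, U)) (f.appLE V U hUV).hom M fun y => ?_⟩
  refine ampAt_of_iso _ e ((ampAt_chart_iff hU hV hUV K y).2 ?_)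
  obtain ⟨z, hz, hyz⟩ := Set.mem_iUnion₂.1 (ht (Set.mem_univ y))
  exact ampAt_mono _ (hlo (Finset.mem_image_of_mem a hz)) (hhi (Finset.mem_image_of_mem b hz)) (hW z _ hyz)

/-- A chart gives the local statements. -/
theorem amp_of_chart (hU : IsAffineOpen U) (hV : IsAffineOpen V)
    (hUV : U ≤ f ⁻¹ᵁ V) [PreservesFiniteLimits (tilde.functor Γ(X, U))] {K : DCoh.D X} (M : Dual.D Γ(X, U))
    (e : (resD hU.fromSpec).obj K ≅ (DCoh.tildeD Γ(X, U)).obj M)
    (h : @Dual2.IsRelPerfect Γ(S, V) Γ(X, U) _ _ (f.appLE V U hUV).hom.toAlgebra M) :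
    (∀ m, DCoh.IsPseudoCoherentD m ((resD hU.fromSpec).obj K)) ∧ ∃ a b : ℤ, ∀ x ∈ U, AmpAt f a b K x := by
  letI := (f.appLE V U hUV).hom.toAlgebra
  obtain ⟨hpc, a, b, hab⟩ := h
  refine ⟨fun m => isPseudoCoherentD_of_iso ((isPseudoCoherentD_tildeD_iff (A := Γ(X, U)) M m).2
    (GrothLib.DR.isPseudoCoherent_of_prime hpc m)) e.symm, a, b, fun x hx => ?_⟩
  obtain ⟨y, rfl⟩ := mem_range_fromSpec hU hx
  exact (ampAt_chart_iff hU hV hUV K y).1 (ampAt_of_iso _ e.symm
    (ampAt_tilde_of_amp (R := Γ(S, V)) (A := Γ(X, U)) (f.appLE V U hUV).hom M hab y))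

/-- Relative perfectness from charts covering `X`. -/
theorem relPerf_of_charts [Flat f] {K : DCoh.D X}
    (h : ∀ x : X, ∃ (U : X.Opens) (hU : IsAffineOpen U), x ∈ U ∧
      (∀ m, DCoh.IsPseudoCoherentD m ((resD hU.fromSpec).obj K)) ∧ ∃ a b : ℤ, ∀ y ∈ U, AmpAt f a b K y) :
    RelPerf f K := by
  refine ⟨fun m => isPseudoCoherentD_of_local fun x => ?_, (locHasFiniteRelTorDim_iff f K).2 fun x => ?_⟩
  · obtain ⟨U, hU, hx, hpc, -⟩ := h x
    exact ⟨_, hU.fromSpec, inferInstance, mem_range_fromSpec hU hx, hpc m⟩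
  · obtain ⟨U, -, hx, -, a, b, hab⟩ := h x
    exact ⟨U, a, b, hx, hab⟩

end GrothLib.RelAmp22
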