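import Groth.Agent.Lib.RelAmp22.Charts
import Groth.Agent.Lib.DualCx22.RelPerfectModule
import Groth.Agent.Lib.Approx6.ModuleScheme
import Groth.Agent.Lib.DerCat.BoundedDevissage
import Groth.Agent.Lib.LocFree8.Tilde
import Groth.Agent.Lib.FittSheaf.PullbackFP
import Groth.Agent.Lib.OX.PCohQCoh

/-!
# Relative perfectness through bounded complexes of finitely presented flat modules
-/

set_option autoImplicit false
set_option maxHeartbeats 1000000
set_option linter.style.haveILetI false
universe u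

open CategoryTheory CategoryTheory.Limits AlgebraicGeometry HomologicalComplex CategoryTheory.Pretriangulated

attribute [local instance] HasDerivedCategory.standard

namespace GrothLib.RelAmp22

open GrothLib.OX

variable {X S : Scheme.{u}}

theorem flatOverAt_iff_amp (f : X ⟶ S) (M : X.Modules) (x : X) :
    FlatMod.IsFlatOverAt f M x ↔ AmpAt f 0 0 (DerivedCategory.Q.obj (singleCx 0 M)) x := by
  rw [← GrothLib.KSix19.hasTorAmplitudeAt_single_iff f x M]
  let e : DRing.toD ((DerSch.stalkCxOver f x).obj (singleCx 0 M)) ≅ DRing.toD ((relStalkCx f x).obj (singleCx 0 M)) :=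
    DerivedCategory.Q.mapIso ((NatIso.mapHomologicalComplex
      (Functor.isoWhiskerRight (GrothLib.KSix19.stalkFunctorIso x) (ModuleCat.restrictScalars (f.stalkMap x).hom))
      (ComplexShape.up ℤ)).app (singleCx 0 M))
  exact ⟨fun h => (ampAt_Q_iff f _ x).2 (GrothLib.KSix19.amp_of_iso e h),
    fun h => GrothLib.KSix19.amp_of_iso e.symm ((ampAt_Q_iff f _ x).1 h)⟩

theorem flatOverAt_restrict_iff (f : X ⟶ S) {U : Scheme.{u}} (j : U ⟶ X) [IsOpenImmersion j] (M : X.Modules) (y : U) :
    FlatMod.IsFlatOverAt (j ≫ f) ((Scheme.Modules.restrictFunctor j).obj M) y ↔ FlatMod.IsFlatOverAt f M (j y) := by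
  let e : (resD j).obj (DerivedCategory.Q.obj (singleCx 0 M)) ≅
      DerivedCategory.Q.obj (singleCx 0 ((Scheme.Modules.restrictFunctor j).obj M)) :=
    (resDFac j).app (singleCx 0 M) ≪≫ DerivedCategory.Q.mapIso
      ((HomologicalComplex.singleMapHomologicalComplex (Scheme.Modules.restrictFunctor j) (ComplexShape.up ℤ) 0).app M)
  rw [flatOverAt_iff_amp, flatOverAt_iff_amp, ← ampAt_resD_iff f j (DerivedCategory.Q.obj (singleCx 0 M)) y]
  exact ⟨ampAt_of_iso _ e.symm, ampAt_of_iso _ e⟩

theorem flatOverAt_comp_openImmersion (g : X ⟶ S) {S' : Scheme.{u}} (k : S ⟶ S') [IsOpenImmersion k]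
    (M : X.Modules) (x : X) : FlatMod.IsFlatOverAt (g ≫ k) M x ↔ FlatMod.IsFlatOverAt g M x := by
  rw [flatOverAt_iff_amp, flatOverAt_iff_amp, ampAt_comp_openImmersion]

theorem thick_pseudoCoherent :
    GrothLib.TriCat.Thick (fun K : DCoh.D X => ∀ m, DCoh.IsPseudoCoherentD m K) where
  zero hZ := (relPerf_zero (𝟙 X) hZ).1
  shift n h m := isPseudoCoherentD_shift (h (n + m)) n m (by omega)
  total {A B C} i₁ p₁ i₂ p₂ h hA hB m :=
    isPseudoCoherentD_retract (biprod.lift p₁ p₂) (biprod.desc i₁ i₂) (by rw [biprod.lift_desc, h])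
      ((isPseudoCoherentD_triangle m (binaryBiproductTriangle_distinguished A B)).2.1 (hA m) (hB m))
  cone T hT h₁ h₂ m := (isPseudoCoherentD_triangle m hT).1 (h₁ (m + 1)) (h₂ m)

/-- A relatively perfect object has local bounded representatives by finitely presented flat modules. -/
theorem exists_fp_rep {f : X ⟶ S} [Flat f] [LocallyOfFinitePresentation f] {E : DCoh.D X} (h : RelPerf f E) (x : X) :
    ∃ V : X.Opens, x ∈ V ∧ ∀ F : CochainComplex X.Modules ℤ, Nonempty (DCoh.toD X F ≅ E) →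
        ∃ (G : CochainComplex (V : Scheme.{u}).Modules ℤ) (a b : ℤ), DCoh.VanishesOutside G a b ∧
          (∀ i : ℤ, CohB1.IsFP (G.X i) ∧ FlatMod.IsFlatOver (V.ι ≫ f) (G.X i)) ∧
          Nonempty (DerivedCategory.Q.obj ((DCoh.restrictCx V).obj F) ≅ DerivedCategory.Q.obj G) := by
  have hQ : DCoh.IsQCohD E := fun i => isQCoh_HD_of_pseudoCoherent (h.1 (i - 1)) (by omega)
  obtain ⟨V, hV, hxV, -⟩ := exists_isAffineOpen_mem_and_subset (x := f x) (U := ⊤) trivial
  obtain ⟨U, hU, hx, hUV⟩ := exists_isAffineOpen_mem_and_subset (x := x) (U := f ⁻¹ᵁ V) hxV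
  refine ⟨U, hx, fun F ⟨eF⟩ => ?_⟩
  haveI := preservesFiniteLimits_tildeGen Γ(X, U)
  obtain ⟨M, ⟨eM⟩⟩ := exists_tildeD_rep hQ hU.fromSpec
  let φ := (f.appLE V U hUV).hom
  letI := φ.toAlgebra
  obtain ⟨hpc, a, b, hab⟩ := isRelPerfect_chart h hU hV hUV M eM.symm
  obtain ⟨E0, c, hc, hEf, ⟨eE⟩⟩ := hpc
  have hflat : φ.Flat := f.flat_appLE hV hU hUV
  haveI : Module.Flat Γ(S, V) Γ(X, U) := hflat
  have hfR : DRing.TermwiseFlat ((DRing.restrictCx φ).obj E0) := fun i => by
    haveI := (hEf i).1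
    haveI := GrothLib.DR.projective_of_finiteFree hEf i
    letI : Module Γ(S, V) (E0.X i) := Module.compHom _ φ
    haveI : IsScalarTower Γ(S, V) Γ(X, U) (E0.X i) := IsScalarTower.of_algebraMap_smul fun _ _ => rfl
    exact (Module.Flat.trans Γ(S, V) Γ(X, U) (E0.X i) : Module.Flat Γ(S, V) (E0.X i))
  have hamp : DRing.HasTorAmplitudeIn Γ(S, V) a b (DRing.toD ((DRing.restrictCx φ).obj E0)) :=
    GrothLib.KSix19.amp_of_iso ((DRing.restrictD φ).mapIso eE.symm ≪≫
      (ModuleCat.restrictScalars φ).mapDerivedCategoryFactors.app E0) hab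
  haveI : E0.IsGE a := (E0.isGE_iff a).2 fun i hi => by
    have hi' := GrothLib.DR.subsingleton_HD_of_amplitude hamp i (Or.inl hi)
    exact (GrothLib.KF.exactAt_restrict_iff φ E0 i).1 ((GrothLib.DR.exactAt_iff _ i).2 hi')
  let E1 := E0.truncGE a
  haveI : QuasiIso (E0.πTruncGE a) := inferInstance
  have hterm : ∀ i, Module.FinitePresentation Γ(X, U) (E1.X i) ∧
      Module.Flat Γ(S, V) ((ModuleCat.restrictScalars φ).obj (E1.X i)) := fun i => by
    rcases lt_trichotomy i a with hi | rfl | hi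
    · have hz := CochainComplex.isZero_of_isStrictlyGE E1 a i hi
      haveI := ModuleCat.subsingleton_of_isZero hz
      haveI := ModuleCat.subsingleton_of_isZero ((ModuleCat.restrictScalars φ).map_isZero hz)
      exact ⟨inferInstance, inferInstance⟩
    · exact ⟨GrothLib.DualCx22.finitePresentation_truncGE_bottom E0 hEf i,
        GrothLib.DualCx22.flat_restrict_truncGE_bottom φ E0
          (fun j hj => (ModuleCat.restrictScalars φ).map_isZero (hc j hj)) hfR i b hamp⟩
    · let e := E0.truncGEXIso a i hi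
      haveI := (hEf i).1
      haveI := GrothLib.DR.projective_of_finiteFree hEf i
      haveI := Module.finitePresentation_of_projective Γ(X, U) (E0.X i)
      haveI : Module.Flat Γ(S, V) ((ModuleCat.restrictScalars φ).obj (E0.X i)) := hfR i
      exact ⟨Module.FinitePresentation.of_equiv e.toLinearEquiv.symm,
        Module.Flat.of_linearEquiv ((ModuleCat.restrictScalars φ).mapIso e).toLinearEquiv⟩
  let T := ((tilde.functor Γ(X, U)).mapHomologicalComplex (ComplexShape.up ℤ)).obj E1
  let j := hU.isoSpec.hom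
  refine ⟨(resCx j).obj T, a, max a c, fun i hi => ?_, fun i => ⟨?_, fun y => ?_⟩, ⟨?_⟩⟩
  · refine (Scheme.Modules.restrictFunctor j).map_isZero ((tilde.functor Γ(X, U)).map_isZero ?_)
    rcases hi with hi | hi
    · exact CochainComplex.isZero_of_isStrictlyGE E1 a i hi
    · exact (hc i (by omega)).of_iso (E0.truncGEXIso a i (by omega))
  · haveI := (hterm i).1
    have hT : CohB1.IsFP (tilde (E1.X i)) := GrothLib.LocFree8.isFP_tilde (E1.X i)
    haveI : (tilde (E1.X i)).IsQuasicoherent := by haveI := hT; infer_instance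
    exact (SheafOfModules.isFinitePresentation (U : Scheme.{u}).ringCatSheaf).prop_of_iso
      ((Scheme.Modules.restrictFunctorIsoPullback j).app (tilde (E1.X i))).symm
      (GrothLib.FittSheaf.isFP_pullback j (tilde (E1.X i)) hT)
  · letI : Module Γ(S, V) (E1.X i) := Module.compHom _ φ
    haveI : Module.Flat Γ(S, V) (E1.X i) := (hterm i).2
    have h1 : FlatMod.IsFlatOver (Spec.map (f.appLE V U hUV)) (tilde (E1.X i)) :=
      GrothLib.Approx6.isFlatOver_tilde' (f.appLE V U hUV) (E1.X i) fun _ _ => rfl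
    have h2 := (flatOverAt_comp_openImmersion (Spec.map (f.appLE V U hUV)) hV.fromSpec _ (j y)).2 (h1 (j y))
    rw [IsAffineOpen.SpecMap_appLE_fromSpec f hV hU hUV] at h2
    have h3 := (flatOverAt_restrict_iff (hU.fromSpec ≫ f) j (tilde (E1.X i)) y).2 h2
    have hc' : j ≫ hU.fromSpec ≫ f = U.ι ≫ f := by
      rw [← Category.assoc, hU.isoSpec_hom_fromSpec]
    rw [hc'] at h3
    exact h3
  · let eU : (resD U.ι).obj E ≅ (resD j).obj ((resD hU.fromSpec).obj E) :=
      (nonempty_resD_congr hU.isoSpec_hom_fromSpec E).some.symm ≪≫ ((resDCompIso j hU.fromSpec).app E).symm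
    exact ((resDFac U.ι).app F).symm ≪≫ (resD U.ι).mapIso eF ≪≫ eU ≪≫
      (resD j).mapIso (eM.symm ≪≫ (DCoh.tildeD Γ(X, U)).mapIso (eE.symm ≪≫ asIso (DerivedCategory.Q.map (E0.πTruncGE a))) ≪≫
        (tilde.functor Γ(X, U)).mapDerivedCategoryFactors.app E1) ≪≫ (resDFac j).app T

/-- Finitely presented modules flat over the base are pseudo-coherent on a chart. -/
theorem pseudoCoherent_single {R A : Type u} [CommRing R] [CommRing A] [Algebra R A]
    [Module.Flat R A] [Algebra.FinitePresentation R A] [PreservesFiniteLimits (tilde.functor (CommRingCat.of A))]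
    (N : (Spec (CommRingCat.of A)).Modules) (hN : CohB1.IsFP N)
    (hfl : FlatMod.IsFlatOver (Spec.map (CommRingCat.ofHom (algebraMap R A))) N) (i : ℤ) :
    ∀ m, DCoh.IsPseudoCoherentD m ((DerivedCategory.singleFunctor _ i).obj N) := by
  haveI : N.IsQuasicoherent := by haveI := hN; infer_instance
  obtain ⟨M, ⟨eM⟩⟩ : ∃ M : ModuleCat.{u} (CommRingCat.of A), Nonempty ((tilde.functor (CommRingCat.of A)).obj M ≅ N) :=
    (isIso_fromTildeΓ_iff (R := CommRingCat.of A) (M := N)).mp
      (Scheme.Modules.isIso_fromTildeΓ_of_isQuasicoherent (R := CommRingCat.of A) N)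
  haveI : Module.FinitePresentation A M := GrothLib.LocFree8.finitePresentation_of_isFP (R := CommRingCat.of A) M
    ((SheafOfModules.isFinitePresentation (Spec (CommRingCat.of A)).ringCatSheaf).prop_of_iso eM.symm hN)
  have hflat : Module.Flat R ((ModuleCat.restrictScalars (algebraMap R A)).obj M) := by
    refine GrothLib.DR.flat_of_hasTorAmplitudeIn (GrothLib.KSix19.amp_of_iso
      ((((ModuleCat.restrictScalars (algebraMap R A)).mapDerivedCategorySingleFunctor 0).app M)) ?_)
    refine amp_of_ampAt_tilde (algebraMap R A) _ fun x => ampAt_of_iso _ ?_ ((flatOverAt_iff_amp _ N x).1 (hfl x))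
    exact ((DerivedCategory.singleFunctorIsoCompQ (Spec (CommRingCat.of A)).Modules 0).app N).symm ≪≫
      (DerivedCategory.singleFunctor _ 0).mapIso eM.symm ≪≫
      (((tilde.functor (CommRingCat.of A)).mapDerivedCategorySingleFunctor 0).app M).symm
  have hM := GrothLib.DualCx22.isPseudoCoherentModule'_of_flat (R := R) M hflat
  intro m
  refine isPseudoCoherentD_of_iso (isPseudoCoherentD_shift (k := -i) (n := m)
    (isPseudoCoherentD_of_iso ((isPseudoCoherentD_tildeD_iff (A := A) _ _).2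
      (GrothLib.DR.isPseudoCoherent_of_prime hM (-i + m)))
      (((tilde.functor (CommRingCat.of A)).mapDerivedCategorySingleFunctor 0).app M ≪≫
        (DerivedCategory.singleFunctor _ 0).mapIso eM)) (by omega)) ?_
  exact (((DerivedCategory.singleFunctors (Spec (CommRingCat.of A)).Modules).shiftIso (-i) i 0 (by omega)).app N)

/-- Conversely. -/
theorem relPerf_of_fp_rep {f : X ⟶ S} [Flat f] [LocallyOfFinitePresentation f] {E : DCoh.D X}
    (h : ∀ x : X, ∃ V : X.Opens, x ∈ V ∧ ∀ F : CochainComplex X.Modules ℤ, Nonempty (DCoh.toD X F ≅ E) →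
        ∃ (G : CochainComplex (V : Scheme.{u}).Modules ℤ) (a b : ℤ), DCoh.VanishesOutside G a b ∧
          (∀ i : ℤ, CohB1.IsFP (G.X i) ∧ FlatMod.IsFlatOver (V.ι ≫ f) (G.X i)) ∧
          Nonempty (DerivedCategory.Q.obj ((DCoh.restrictCx V).obj F) ≅ DerivedCategory.Q.obj G)) :
    RelPerf f E := by
  refine relPerf_of_charts fun x => ?_
  obtain ⟨W, hxW, hW⟩ := h x
  let F := DerivedCategory.Q.objPreimage E
  let eF : DerivedCategory.Q.obj F ≅ E := DerivedCategory.Q.objObjPreimageIso E
  obtain ⟨G, a, b, hG, hterm, ⟨eG⟩⟩ := hW F ⟨eF⟩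
  let eW : DerivedCategory.Q.obj G ≅ (resD W.ι).obj E :=
    eG.symm ≪≫ ((resDFac W.ι).app F).symm ≪≫ (resD W.ι).mapIso eF
  obtain ⟨V, hV, hxV, -⟩ := exists_isAffineOpen_mem_and_subset (x := f x) (U := ⊤) trivial
  obtain ⟨U, hU, hx, hle⟩ := exists_isAffineOpen_mem_and_subset (x := x) (U := W ⊓ f ⁻¹ᵁ V) ⟨hxW, hxV⟩
  have hUW : U ≤ W := le_trans hle inf_le_left
  have hUV : U ≤ f ⁻¹ᵁ V := le_trans hle inf_le_right
  refine ⟨U, hU, hx, ?_, a, b, fun y hy => ?_⟩
  · haveI := preservesFiniteLimits_tildeGen Γ(X, U)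
    let φ := (f.appLE V U hUV).hom
    letI := φ.toAlgebra
    haveI : Module.Flat Γ(S, V) Γ(X, U) := f.flat_appLE hV hU hUV
    haveI : Algebra.FinitePresentation Γ(S, V) Γ(X, U) := f.finitePresentation_appLE hV hU hUV
    let k : Spec Γ(X, U) ⟶ (W : Scheme.{u}) := hU.isoSpec.inv ≫ X.homOfLE hUW
    have hk : k ≫ W.ι = hU.fromSpec := by
      rw [Category.assoc, Scheme.homOfLE_ι]
      rfl
    let e : (resD hU.fromSpec).obj E ≅ DerivedCategory.Q.obj ((resCx k).obj G) :=
      (nonempty_resD_congr hk E).some.symm ≪≫ ((resDCompIso k W.ι).app E).symm ≪≫ (resD k).mapIso eW.symm ≪≫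
        (resDFac k).app G
    obtain ⟨p, hp⟩ : ∃ p : ℕ, ∀ i, i < a ∨ a + p ≤ i → IsZero (((resCx k).obj G).X i) :=
      ⟨(b - a + 1).toNat, fun i hi => (Scheme.Modules.restrictFunctor k).map_isZero (hG i (by omega))⟩
    have hall := GrothLib.DerCat.prop_Q_of_bounded thick_pseudoCoherent p ((resCx k).obj G) a hp fun i => by
      haveI : (G.X i).IsQuasicoherent := by haveI := (hterm i).1; infer_instance
      refine pseudoCoherent_single (R := Γ(S, V)) (A := Γ(X, U)) _ ?_ (fun y => ?_) i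
      · exact (SheafOfModules.isFinitePresentation (Spec Γ(X, U)).ringCatSheaf).prop_of_iso
          ((Scheme.Modules.restrictFunctorIsoPullback k).app _).symm (GrothLib.FittSheaf.isFP_pullback k _ (hterm i).1)
      · refine (flatOverAt_comp_openImmersion (specMap φ) hV.fromSpec _ y).1 ?_
        have h1 := (flatOverAt_restrict_iff (W.ι ≫ f) k (G.X i) y).2 ((hterm i).2 (k y))
        have hh : k ≫ W.ι ≫ f = specMap φ ≫ hV.fromSpec := by
          rw [← Category.assoc, hk]
          exact (IsAffineOpen.SpecMap_appLE_fromSpec f hV hU hUV).symm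
        rw [hh] at h1
        exact h1
    exact fun m => isPseudoCoherentD_of_iso (hall m) e.symm
  · exact ampAt_of_resD f W.ι hG (fun i => (hterm i).2) eW ⟨y, hUW hy⟩

end GrothLib.RelAmp22
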