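import Groth.Agent.Lib.KSix19.TorAmp
import Groth.Agent.Lib.KSix19.StalkAmp
import Groth.Agent.Lib.DCxRing.Amplitude
import Groth.Agent.Lib.OX.PCoh
import Groth.Agent.Lib.OX.FlatLocFree
import Groth.Agent.S6944
import Groth.Prelude.Def_DCoh3

/-!
# Relative tor amplitude through stalks over the base

For `f : X ⟶ S` the functor `relStalk f x` sends a module to its stalk at `x`, seen over the local
ring of `S` at `f x`.  Over a flat `f`, relative flat amplitude is tor amplitude of these stalks.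
-/

set_option autoImplicit false
set_option maxHeartbeats 800000
universe u

open CategoryTheory CategoryTheory.Limits AlgebraicGeometry HomologicalComplex CategoryTheory.Pretriangulated

attribute [local instance] HasDerivedCategory.standard

namespace GrothLib.RelAmp22

open GrothLib.OX

/-- An exact functor on cycles. -/
noncomputable def mapCyclesIso' {A B : Type*} [Category A] [Category B] [Abelian A] [Abelian B] (F : A ⥤ B)
    [F.Additive] [F.PreservesHomology] (P : CochainComplex A ℤ) (n : ℤ) :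
    ((F.mapHomologicalComplex (ComplexShape.up ℤ)).obj P).cycles n ≅ F.obj (P.cycles n) :=
  (P.sc n).mapCyclesIso F

/-- An exact functor on cokernels of differentials. -/
noncomputable def mapOpcyclesIso' {A B : Type*} [Category A] [Category B] [Abelian A] [Abelian B] (F : A ⥤ B)
    [F.Additive] [F.PreservesHomology] (P : CochainComplex A ℤ) (n : ℤ) :
    ((F.mapHomologicalComplex (ComplexShape.up ℤ)).obj P).opcycles n ≅ F.obj (P.opcycles n) :=
  (P.sc n).mapOpcyclesIso F

/-- Flat cycles in the exact range. -/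
theorem flat_cycles {A : Type u} [CommRing A] (P : DRing.Cx A) {b c : ℤ} (hc : DRing.VanishesAbove P c)
    (hP : DRing.TermwiseFlat P) (hex : ∀ i, b < i → P.ExactAt i) : Module.Flat A (P.cycles b) := by
  let S := P.sc' (b - 1) b (b + 1)
  haveI : Module.Flat A S.moduleCatLeftHomologyData.K :=
    GrothLib.DR.flat_ker_of_exact P c hc b (fun j _ => hP j) hex b le_rfl
  exact Module.Flat.of_linearEquiv
    (ShortComplex.cyclesMapIso (P.isoSc' (b - 1) b (b + 1) (by simp) (by simp)) ≪≫
      S.moduleCatCyclesIso).toLinearEquiv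

/-- Flat cokernel at the bottom of the amplitude. -/
theorem flat_opcycles {A : Type u} [CommRing A] (P : DRing.Cx A) {c : ℤ} (hc : DRing.VanishesAbove P c)
    (hP : DRing.TermwiseFlat P) {a b : ℤ} (h : DRing.HasTorAmplitudeIn A a b (DRing.toD P)) :
    Module.Flat A (P.opcycles a) := by
  let S := P.sc' (a - 1) a (a + 1)
  haveI : Module.Flat A (ModuleCat.of A (S.X₂ ⧸ LinearMap.range S.f.hom)) :=
    Groth.Agent.S6944.result A P c hc hP a b h
  exact Module.Flat.of_linearEquiv
    (ShortComplex.opcyclesMapIso (P.isoSc' (a - 1) a (a + 1) (by simp) (by simp)) ≪≫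
      S.moduleCatOpcyclesIso).toLinearEquiv

variable {X S : Scheme.{u}}

/-- The stalk at `x`, seen over the local ring of the base. -/
noncomputable def relStalk (f : X ⟶ S) (x : X) : X.Modules ⥤ ModuleCat.{u} (S.presheaf.stalk (f x)) :=
  stalk x ⋙ ModuleCat.restrictScalars (f.stalkMap x).hom

variable (f : X ⟶ S)

instance (x : X) : (relStalk f x).Additive := by unfold relStalk; infer_instance

instance (x : X) : PreservesFiniteLimits (relStalk f x) := by unfold relStalk; infer_instance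

instance (x : X) : PreservesFiniteColimits (relStalk f x) := by unfold relStalk; infer_instance

/-- The relative stalk on complexes. -/
noncomputable abbrev relStalkCx (x : X) : CochainComplex X.Modules ℤ ⥤ DRing.Cx (S.presheaf.stalk (f x)) :=
  (relStalk f x).mapHomologicalComplex (ComplexShape.up ℤ)

/-- Tor amplitude of the stalk at `x` over the local ring of the base. -/
def AmpAt (a b : ℤ) (K : DCoh.D X) (x : X) : Prop :=
  DRing.HasTorAmplitudeIn (S.presheaf.stalk (f x)) a b ((relStalk f x).mapDerivedCategory.obj K)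

theorem ampAt_of_iso {a b : ℤ} {K L : DCoh.D X} (e : K ≅ L) {x : X} (h : AmpAt f a b K x) : AmpAt f a b L x :=
  GrothLib.KSix19.amp_of_iso ((relStalk f x).mapDerivedCategory.mapIso e) h

theorem ampAt_Q_iff {a b : ℤ} (F : CochainComplex X.Modules ℤ) (x : X) :
    AmpAt f a b (DerivedCategory.Q.obj F) x ↔
      DRing.HasTorAmplitudeIn (S.presheaf.stalk (f x)) a b (DRing.toD ((relStalkCx f x).obj F)) :=
  ⟨GrothLib.KSix19.amp_of_iso ((relStalk f x).mapDerivedCategoryFactors.app F),
    GrothLib.KSix19.amp_of_iso ((relStalk f x).mapDerivedCategoryFactors.app F).symm⟩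

theorem ampAt_mono {a a' b b' : ℤ} (ha : a' ≤ a) (hb : b ≤ b') {K : DCoh.D X} {x : X} (h : AmpAt f a b K x) :
    AmpAt f a' b' K x :=
  GrothLib.KSix19.amp_mono ha hb h

theorem flatOver_iff_relStalk (M : X.Modules) (x : X) :
    FlatMod.IsFlatOverAt f M x ↔ Module.Flat (S.presheaf.stalk (f x)) ((relStalk f x).obj M) := by
  let e : (DerSch.stalkOver f x).obj M ≅ (relStalk f x).obj M :=
    (ModuleCat.restrictScalars (f.stalkMap x).hom).mapIso ((GrothLib.KSix19.stalkFunctorIso x).app M)
  exact ⟨fun h => flat_of_modIso e h, fun h => flat_of_modIso e.symm h⟩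

theorem ampAt_of_relFlat {a b : ℤ} {K : DCoh.D X} (h : DCoh.HasRelFlatAmplitudeIn f a b K) (x : X) :
    AmpAt f a b K x := by
  obtain ⟨E, hE, hfl, ⟨e⟩⟩ := h
  refine ampAt_of_iso f e ((ampAt_Q_iff f E x).2 ⟨(relStalkCx f x).obj E,
    fun i hi => (relStalk f x).map_isZero (hE i hi), fun i => (flatOver_iff_relStalk f _ x).1 (hfl i x), ⟨Iso.refl _⟩⟩)

theorem exactAt_relStalk {F : CochainComplex X.Modules ℤ} {a b : ℤ} {x : X}
    (h : AmpAt f a b (DerivedCategory.Q.obj F) x) (i : ℤ) (hi : i < a ∨ b < i) :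
    ((relStalkCx f x).obj F).ExactAt i :=
  (GrothLib.DR.exactAt_iff _ i).2 (GrothLib.DR.subsingleton_HD_of_amplitude ((ampAt_Q_iff f F x).1 h) i hi)

theorem exactAt_of_amp {F : CochainComplex X.Modules ℤ} {a b : ℤ}
    (h : ∀ x, AmpAt f a b (DerivedCategory.Q.obj F) x) (i : ℤ) (hi : i < a ∨ b < i) : F.ExactAt i := by
  rw [exactAt_iff_isZero_homology]
  refine (GrothLib.OX.isZero_iff _).2 fun x => ?_
  have hz : IsZero ((relStalk f x).obj (F.homology i)) :=
    ((exactAt_iff_isZero_homology _ _).1 (exactAt_relStalk f (h x) i hi)).of_iso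
      ((F.sc i).mapHomologyIso (relStalk f x)).symm
  haveI : Subsingleton ((relStalk f x).obj (F.homology i)) := ModuleCat.subsingleton_of_isZero hz
  haveI : Subsingleton ((stalk x).obj (F.homology i)) := ⟨fun p q => (inferInstance :
    Subsingleton ((relStalk f x).obj (F.homology i))).elim p q⟩
  exact ModuleCat.isZero_of_subsingleton _

theorem isLE_of_amp {K : DCoh.D X} {a b : ℤ} (h : ∀ x, AmpAt f a b K x) :
    (DerivedCategory.Q.objPreimage K).IsLE b := by
  rw [CochainComplex.isLE_iff]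
  exact fun i hi => exactAt_of_amp f
    (fun x => ampAt_of_iso f (DerivedCategory.Q.objObjPreimageIso K).symm (h x)) i (Or.inr hi)

/-- Over a flat morphism, stalkwise tor amplitude gives a representative with terms flat over the base. -/
theorem relFlat_of_amp [Flat f] {a b : ℤ} (hab : a ≤ b) {K : DCoh.D X} (h : ∀ x, AmpAt f a b K x) :
    DCoh.HasRelFlatAmplitudeIn f a b K := by
  let F := DerivedCategory.Q.objPreimage K
  let eF : DerivedCategory.Q.obj F ≅ K := DerivedCategory.Q.objObjPreimageIso K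
  haveI : F.IsLE b := isLE_of_amp f h
  haveI : (DCoh.toD X F).IsLE b := inferInstanceAs ((DerivedCategory.Q.obj F).IsLE b)
  obtain ⟨P, c, hP, hflat, ⟨eP⟩⟩ := GrothLib.KSix19.exists_flat_rep F b
  have hfS : ∀ i, FlatMod.IsFlatOver f (P.X i) := fun i x => by
    refine (flatOver_iff_relStalk f _ x).2 ?_
    letI := (f.stalkMap x).hom.toAlgebra
    have h1 : Module.Flat (X.presheaf.stalk x) ((stalk x).obj (P.X i)) := (GrothLib.OX.flat_iff _).1 (hflat i) x
    have h2 : Module.Flat (S.presheaf.stalk (f x)) (X.presheaf.stalk x) := Flat.stalkMap f x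
    letI : Module (S.presheaf.stalk (f x)) ((stalk x).obj (P.X i)) := Module.compHom _ (f.stalkMap x).hom
    haveI : IsScalarTower (S.presheaf.stalk (f x)) (X.presheaf.stalk x) ((stalk x).obj (P.X i)) :=
      IsScalarTower.of_algebraMap_smul fun _ _ => rfl
    exact Module.Flat.trans (S.presheaf.stalk (f x)) (X.presheaf.stalk x) ((stalk x).obj (P.X i))
  have hA : ∀ x, AmpAt f a b (DerivedCategory.Q.obj P) x := fun x => ampAt_of_iso f (eP ≪≫ eF).symm (h x)
  haveI : P.IsLE b := (P.isLE_iff b).2 fun i hi => exactAt_of_amp f hA i (Or.inr hi)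
  let Q₁ := P.truncLE b
  haveI : QuasiIso (P.ιTruncLE b) := inferInstance
  let e₁ : DerivedCategory.Q.obj Q₁ ≅ DerivedCategory.Q.obj P := asIso (DerivedCategory.Q.map (P.ιTruncLE b))
  have hA₁ : ∀ x, AmpAt f a b (DerivedCategory.Q.obj Q₁) x := fun x => ampAt_of_iso f e₁.symm (hA x)
  have hfS₁ : ∀ i x, Module.Flat (S.presheaf.stalk (f x)) ((relStalk f x).obj (Q₁.X i)) := fun i x => by
    rcases lt_trichotomy i b with hi | rfl | hi
    · exact flat_of_modIso ((relStalk f x).mapIso (P.truncLEXIso b i hi).symm)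
        ((flatOver_iff_relStalk f _ x).1 (hfS i x))
    · refine flat_of_modIso (mapCyclesIso' (relStalk f x) P i ≪≫ (relStalk f x).mapIso (P.truncLEXIsoCycles i).symm)
        (flat_cycles ((relStalkCx f x).obj P) (c := c) (fun j hj => (relStalk f x).map_isZero (hP j hj))
          (fun j => (flatOver_iff_relStalk f _ x).1 (hfS j x)) fun j hj => exactAt_relStalk f (hA x) j (Or.inr hj))
    · haveI := ModuleCat.subsingleton_of_isZero ((relStalk f x).map_isZero (Q₁.isZero_of_isStrictlyLE b i hi))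
      infer_instance
  haveI : Q₁.IsGE a := (Q₁.isGE_iff a).2 fun i hi => exactAt_of_amp f hA₁ i (Or.inl hi)
  haveI : QuasiIso (Q₁.πTruncGE a) := inferInstance
  refine ⟨Q₁.truncGE a, fun n hn => ?_, fun n x => ?_,
    ⟨(asIso (DerivedCategory.Q.map (Q₁.πTruncGE a))).symm ≪≫ e₁ ≪≫ eP ≪≫ eF⟩⟩
  · rcases hn with hn | hn
    · exact CochainComplex.isZero_of_isStrictlyGE _ a n hn
    · exact (CochainComplex.isZero_of_isStrictlyLE Q₁ b n hn).of_iso (Q₁.truncGEXIso a n (by omega))
  · refine (flatOver_iff_relStalk f _ x).2 ?_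
    rcases lt_trichotomy n a with hn | rfl | hn
    · haveI := ModuleCat.subsingleton_of_isZero
        ((relStalk f x).map_isZero (CochainComplex.isZero_of_isStrictlyGE (Q₁.truncGE a) a n hn))
      infer_instance
    · exact flat_of_modIso
        (mapOpcyclesIso' (relStalk f x) Q₁ n ≪≫ (relStalk f x).mapIso (Q₁.truncGEXIsoOpcycles n).symm)
        (flat_opcycles ((relStalkCx f x).obj Q₁) (c := b)
          (fun j hj => (relStalk f x).map_isZero (Q₁.isZero_of_isStrictlyLE b j hj)) (fun j => hfS₁ j x)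
          ((ampAt_Q_iff f Q₁ x).1 (hA₁ x)))
    · exact flat_of_modIso ((relStalk f x).mapIso (Q₁.truncGEXIso a n hn).symm) (hfS₁ n x)

section Restrict

variable {U : Scheme.{u}} (j : U ⟶ X) [IsOpenImmersion j]

/-- The relative stalk of a restriction. -/
theorem nonempty_relStalkRes (y : U) :
    Nonempty (Scheme.Modules.restrictFunctor j ⋙ relStalk (j ≫ f) y ≅ relStalk f (j y)) := by
  let ψ : X.presheaf.stalk (j y) →+* U.presheaf.stalk y := (j.stalkMap y).hom
  have hbij : Function.Bijective ψ := ConcreteCategory.bijective_of_isIso (j.stalkMap y)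
  haveI : (ModuleCat.restrictScalars.{u} ψ).IsEquivalence :=
    (ModuleCat.restrictScalarsEquivalenceOfRingEquiv (RingEquiv.ofBijective ψ hbij)).isEquivalence_functor
  let adj := ModuleCat.extendRestrictScalarsAdj.{u, u, u} ψ
  haveI : (ModuleCat.extendScalars.{u, u, u} ψ).IsEquivalence := adj.isEquivalence_left_of_isEquivalence_right
  let eU : stalk (j y) ⋙ ModuleCat.extendScalars ψ ⋙ ModuleCat.restrictScalars ψ ≅ stalk (j y) :=
    Functor.isoWhiskerLeft (stalk (j y)) (asIso adj.unit).symm ≪≫ Functor.rightUnitor _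
  have hcomp : ((j ≫ f).stalkMap y).hom = ψ.comp (f.stalkMap (j y)).hom := by
    rw [Scheme.Hom.stalkMap_comp]; rfl
  exact ⟨Functor.isoWhiskerRight (Scheme.Modules.restrictFunctorIsoPullback j) _ ≪≫
    Functor.isoWhiskerRight (pullStalkIso j y) (ModuleCat.restrictScalars ((j ≫ f).stalkMap y).hom) ≪≫
    Functor.isoWhiskerLeft (stalk (j y) ⋙ ModuleCat.extendScalars ψ)
      (ModuleCat.restrictScalarsComp' (f.stalkMap (j y)).hom ψ _ hcomp) ≪≫
    Functor.isoWhiskerRight eU (ModuleCat.restrictScalars (f.stalkMap (j y)).hom)⟩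

theorem nonempty_relStalkResCx (y : U) (F : CochainComplex X.Modules ℤ) :
    Nonempty (DRing.toD ((relStalkCx (j ≫ f) y).obj ((resCx j).obj F)) ≅ DRing.toD ((relStalkCx f (j y)).obj F)) := by
  obtain ⟨e⟩ := nonempty_relStalkRes f j y
  exact ⟨DerivedCategory.Q.mapIso (HomologicalComplex.Hom.isoOfComponents (fun i => e.app (F.X i))
    (fun i k _ => (e.hom.naturality (F.d i k)).symm))⟩

theorem ampAt_resD_iff {a b : ℤ} (K : DCoh.D X) (y : U) :
    AmpAt (j ≫ f) a b ((resD j).obj K) y ↔ AmpAt f a b K (j y) := by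
  let F := DerivedCategory.Q.objPreimage K
  let eF : DerivedCategory.Q.obj F ≅ K := DerivedCategory.Q.objObjPreimageIso K
  let e : DerivedCategory.Q.obj ((resCx j).obj F) ≅ (resD j).obj K :=
    ((resDFac j).app F).symm ≪≫ (resD j).mapIso eF
  obtain ⟨w⟩ := nonempty_relStalkResCx f j y F
  exact ⟨fun h => ampAt_of_iso f eF ((ampAt_Q_iff f F (j y)).2
      (GrothLib.KSix19.amp_of_iso w ((ampAt_Q_iff (j ≫ f) _ y).1 (ampAt_of_iso (j ≫ f) e.symm h)))),
    fun h => ampAt_of_iso (j ≫ f) e ((ampAt_Q_iff (j ≫ f) _ y).2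
      (GrothLib.KSix19.amp_of_iso w.symm ((ampAt_Q_iff f F (j y)).1 (ampAt_of_iso f eF.symm h))))⟩

end Restrict

/-- Locally finite relative tor dimension, on stalks. -/
theorem locHasFiniteRelTorDim_iff [Flat f] (K : DCoh.D X) :
    DCoh.LocHasFiniteRelTorDim f K ↔
      ∀ x : X, ∃ (V : X.Opens) (a b : ℤ), x ∈ V ∧ ∀ y ∈ V, AmpAt f a b K y := by
  let F := DerivedCategory.Q.objPreimage K
  let eF : DerivedCategory.Q.obj F ≅ K := DerivedCategory.Q.objObjPreimageIso K
  refine forall_congr' fun x => ⟨fun ⟨V, a, b, hx, h⟩ => ⟨V, a, b, hx, fun y hy => ?_⟩,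
    fun ⟨V, a, b, hx, h⟩ => ⟨V, a, max a b, hx, fun F' ⟨eF'⟩ => ?_⟩⟩
  · refine (ampAt_resD_iff f V.ι K ⟨y, hy⟩).1 (ampAt_of_iso _ ?_ (ampAt_of_relFlat _ (h F ⟨eF⟩) ⟨y, hy⟩))
    exact ((resDFac V.ι).app F).symm ≪≫ (resD V.ι).mapIso eF
  · refine relFlat_of_amp _ (le_max_left a b) fun y => ?_
    refine ampAt_of_iso (V.ι ≫ f) ?_ ((ampAt_resD_iff f V.ι K y).2
      (ampAt_mono f le_rfl (le_max_right a b) (h _ y.2)))
    exact (resD V.ι).mapIso eF'.symm ≪≫ (resDFac V.ι).app F'

theorem ampAt_obj₃ {T : Triangle (DCoh.D X)} (hT : T ∈ distTriang _) {a b : ℤ} {x : X}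
    (h₁ : AmpAt f (a + 1) (b + 1) T.obj₁ x) (h₂ : AmpAt f a b T.obj₂ x) : AmpAt f a b T.obj₃ x :=
  GrothLib.DR.hasTorAmplitudeIn_obj₃ _ ((relStalk f x).mapDerivedCategory.map_distinguished T hT) h₁ h₂

end GrothLib.RelAmp22
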