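import Groth.Agent.Lib.RelAmp22.Affine
import Groth.Agent.Lib.RelAmp22.Triangle
import Groth.Agent.Lib.OX.PerfectLemmas
import Groth.Agent.Lib.KSix19.ExtTensor

/-!
# Relative perfectness under base change
-/

set_option autoImplicit false
set_option maxHeartbeats 1000000
set_option linter.style.haveILetI false
universe u

open CategoryTheory CategoryTheory.Limits AlgebraicGeometry HomologicalComplex

attribute [local instance] HasDerivedCategory.standard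

namespace GrothLib.RelAmp22

open GrothLib.OX

variable {X S S' : Scheme.{u}}

/-- Locally finite relative tor dimension is preserved by derived base change. -/
theorem locTor_baseChange (f : X ⟶ S) [Flat f] (g : S' ⟶ S) [DCoh.HasLpull (pullback.fst f g)] {K : DCoh.D X}
    (hK : DCoh.LocHasFiniteRelTorDim f K) :
    DCoh.LocHasFiniteRelTorDim (pullback.snd f g) ((DCoh.Lpull (pullback.fst f g)).obj K) := by
  let p₁ := pullback.fst f g
  let p₂ := pullback.snd f g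
  haveI : Flat p₂ := inferInstance
  obtain ⟨P, hP, ⟨e⟩⟩ := exists_kflat_rep K
  obtain ⟨v⟩ := lpull_value p₁ P hP
  refine (locHasFiniteRelTorDim_iff p₂ _).2 fun x' => ?_
  obtain ⟨V, a, b, hx, hV⟩ := (locHasFiniteRelTorDim_iff f K).1 hK (p₁ x')
  refine ⟨p₁ ⁻¹ᵁ V, a, b, hx, fun y hy => ?_⟩
  let P₀ := (DCoh.restrictCx V).obj P
  let eV : DerivedCategory.Q.obj P₀ ≅ (resD V.ι).obj K :=
    ((resDFac V.ι).app P).symm ≪≫ (resD V.ι).mapIso e
  have hF : DerSch.HasTorAmplitude (V.ι ≫ f) a b P₀ :=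
    (hasTorAmplitude_iff (V.ι ≫ f) a b P₀).2 fun z =>
      ampAt_of_iso _ eV.symm ((ampAt_resD_iff f V.ι K z).2 (hV _ z.2))
  have HY : IsPullback g (𝟙 S') (𝟙 S) g := IsPullback.of_vert_isIso ⟨by simp⟩
  have H : IsPullback (p₁ ∣_ V) ((p₁ ⁻¹ᵁ V).ι ≫ p₂) (V.ι ≫ f) g :=
    (isPullback_morphismRestrict p₁ V).paste_vert (IsPullback.of_hasPullback f g)
  haveI := hasLpull (p₁ ∣_ V)
  haveI : Flat ((V.ι ≫ f) ≫ 𝟙 S) := inferInstance
  have hD := GrothLib.KSix19.hasTorAmplitudeD_lpull_flat_base HY H hF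
  obtain ⟨w⟩ := lpull_value (p₁ ∣_ V) P₀ (isKFlat_restrictCx V hP)
  have h1 := (hasTorAmplitude_iff ((p₁ ⁻¹ᵁ V).ι ≫ p₂) a b _).1
    (hD ((pullCxF (p₁ ∣_ V)).obj P₀) ⟨w.symm⟩) ⟨y, hy⟩
  exact (ampAt_resD_iff p₂ (p₁ ⁻¹ᵁ V).ι _ ⟨y, hy⟩).1 (ampAt_of_iso _
    ((DerivedCategory.Q.mapIso (pullSquareCxIso p₁ V P)).symm ≪≫
      ((resDFac (p₁ ⁻¹ᵁ V).ι).app ((pullCxF p₁).obj P)).symm ≪≫
      (resD (p₁ ⁻¹ᵁ V).ι).mapIso (v.symm ≪≫ (DCoh.Lpull p₁).mapIso e)) h1)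

/-- **Relative perfectness is stable under base change.** -/
theorem relPerf_baseChange (f : X ⟶ S) [Flat f] (g : S' ⟶ S) [DCoh.HasLpull (pullback.fst f g)] {K : DCoh.D X}
    (hK : RelPerf f K) : RelPerf (pullback.snd f g) ((DCoh.Lpull (pullback.fst f g)).obj K) :=
  ⟨fun m => isPseudoCoherent_lpull _ (hK.1 m), locTor_baseChange f g hK.2⟩

end GrothLib.RelAmp22
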