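import Groth.Agent.Lib.OX.PerfectLemmas
import Groth.Agent.Lib.OX.LocalTensor
import Groth.Agent.Lib.OX.TildeBaseChange
import Groth.Agent.Lib.OX.TildePerfect
import Groth.Agent.Lib.OX.AffineLocal
import Groth.Agent.S6941
import Groth.Agent.Lib.DCxKFlat.LBaseKFlat

/-!
# Pseudo-coherence descends along quasi-compact faithfully flat morphisms
-/

set_option autoImplicit false
set_option maxHeartbeats 1000000
set_option linter.style.haveILetI false
universe u

open CategoryTheory CategoryTheory.Limits AlgebraicGeometry HomologicalComplex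

attribute [local instance] HasDerivedCategory.standard

namespace GrothLib.RelAmp22

open GrothLib.OX

variable {X Y Z : Scheme.{u}}

/-- Pullbacks of complexes compose. -/
noncomputable def pullCxCompIso (g : Z ⟶ X) (f : X ⟶ Y) (P : CochainComplex Y.Modules ℤ) :
    (pullCxF g).obj ((pullCxF f).obj P) ≅ (pullCxF (g ≫ f)).obj P :=
  HomologicalComplex.Hom.isoOfComponents (fun i => (Scheme.Modules.pullbackComp g f).app (P.X i))
    (fun i j _ => ((Scheme.Modules.pullbackComp g f).hom.naturality (P.d i j)).symm)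

theorem isPC_pullCx (f : X ⟶ Y) {P : CochainComplex Y.Modules ℤ} (hP : DCoh.IsKFlat P) {m : ℤ}
    (h : DCoh.IsPseudoCoherentD m (DerivedCategory.Q.obj P)) :
    DCoh.IsPseudoCoherentD m (DerivedCategory.Q.obj ((pullCxF f).obj P)) := by
  haveI := hasLpull f
  obtain ⟨v⟩ := lpull_value f P hP
  exact isPseudoCoherentD_of_iso (isPseudoCoherent_lpull f h) v

/-- A faithfully flat affine chart over an affine open. -/
theorem exists_affine_chart (f : X ⟶ Y) [Flat f] [Surjective f] [QuasiCompact f] {U : Y.Opens} (hU : IsAffineOpen U) :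
    ∃ (R' : CommRingCat.{u}) (φ : Γ(Y, U) ⟶ R') (g : Spec R' ⟶ X),
      φ.hom.FaithfullyFlat ∧ g ≫ f = Spec.map φ ≫ hU.fromSpec := by
  have : CompactSpace (f ⁻¹ᵁ U : X.Opens) := isCompact_iff_compactSpace.mp (f.isCompact_preimage hU.isCompact)
  let 𝒰 := (f ⁻¹ᵁ U : X.Opens).toScheme.affineCover.finiteSubcover
  let W : Scheme.{u} := ∐ 𝒰.X
  haveI : ∀ i, IsAffine (𝒰.X i) := fun i => by dsimp [𝒰]; infer_instance
  haveI : IsAffine W := inferInstanceAs (IsAffine (∐ 𝒰.X))
  let h0 : W ⟶ (f ⁻¹ᵁ U : X.Opens).toScheme := Sigma.desc 𝒰.f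
  haveI : Flat h0 := IsZariskiLocalAtSource.sigmaDesc fun i => inferInstance
  haveI : Surjective h0 := Surjective.sigmaDesc_of_union_range_eq_univ 𝒰.iUnion_range
  haveI : Flat (f ∣_ U) := inferInstance
  haveI : Surjective (f ∣_ U) := IsZariskiLocalAtTarget.restrict ‹Surjective f› U
  let q : Spec Γ(W, ⊤) ⟶ Spec Γ(Y, U) := W.isoSpec.inv ≫ h0 ≫ (f ∣_ U) ≫ hU.isoSpec.hom
  refine ⟨Γ(W, ⊤), Spec.preimage q, W.isoSpec.inv ≫ h0 ≫ (f ⁻¹ᵁ U).ι, ?_, ?_⟩
  · rw [← flat_and_surjective_SpecMap_iff, Spec.map_preimage]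
    exact ⟨inferInstanceAs (Flat (W.isoSpec.inv ≫ h0 ≫ (f ∣_ U) ≫ hU.isoSpec.hom)),
      inferInstanceAs (Surjective (W.isoSpec.inv ≫ h0 ≫ (f ∣_ U) ≫ hU.isoSpec.hom))⟩
  · rw [Spec.map_preimage]
    simp only [q, Category.assoc, hU.isoSpec_hom_fromSpec, morphismRestrict_ι]

/-- **Descent of pseudo-coherence.** -/
theorem isPC_of_ff (f : X ⟶ Y) [Flat f] [Surjective f] [QuasiCompact f] {P : CochainComplex Y.Modules ℤ}
    (hP : DCoh.IsKFlat P) (hQ : DCoh.IsQCohD (DerivedCategory.Q.obj P)) {m : ℤ}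
    (h : DCoh.IsPseudoCoherentD m (DerivedCategory.Q.obj ((pullCxF f).obj P))) :
    DCoh.IsPseudoCoherentD m (DerivedCategory.Q.obj P) := by
  refine isPseudoCoherentD_of_local fun y => ?_
  obtain ⟨U, hU, hy, -⟩ := exists_isAffineOpen_mem_and_subset (x := y) (U := ⊤) trivial
  refine ⟨_, hU.fromSpec, inferInstance, mem_range_fromSpec hU hy, ?_⟩
  obtain ⟨R', φ, g, hφ, hg⟩ := exists_affine_chart f hU
  let A : Type u := Γ(Y, U)
  let B : Type u := R'
  haveI := preservesFiniteLimits_tildeGen (CommRingCat.of A)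
  haveI := preservesFiniteLimits_tildeGen (CommRingCat.of B)
  haveI := preservesFiniteLimits_tildeGen Γ(Y, U)
  obtain ⟨M, ⟨eM⟩⟩ := exists_tildeD_rep hQ hU.fromSpec
  obtain ⟨K, hK, -, ⟨eK⟩⟩ := GrothLib.KF.exists_kflat_rep M
  let T := ((tilde.functor (CommRingCat.of A)).mapHomologicalComplex (ComplexShape.up ℤ)).obj K
  let eT : DerivedCategory.Q.obj T ≅ DerivedCategory.Q.obj ((pullCxF hU.fromSpec).obj P) :=
    ((tilde.functor (CommRingCat.of A)).mapDerivedCategoryFactors.app K).symm ≪≫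
      (DCoh.tildeD Γ(Y, U)).mapIso eK ≪≫ eM ≪≫ (resDFac hU.fromSpec).app P ≪≫
      DerivedCategory.Q.mapIso ((resPullCxIso hU.fromSpec).app P)
  have hTK : DCoh.IsKFlat T := kflat_tilde hK
  have hg' : g ≫ f = specHom φ.hom ≫ hU.fromSpec := hg
  obtain ⟨i⟩ := nonempty_iso_pullCx (specHom φ.hom) hTK (isKFlat_pullback hU.fromSpec hP) eT
  have h1 : DCoh.IsPseudoCoherentD m (DerivedCategory.Q.obj ((pullCxF (g ≫ f)).obj P)) :=
    isPseudoCoherentD_of_iso (isPC_pullCx g (isKFlat_pullback f hP) h) (DerivedCategory.Q.mapIso (pullCxCompIso g f P))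
  rw [hg'] at h1
  let K' := ((ModuleCat.extendScalars φ.hom).mapHomologicalComplex (ComplexShape.up ℤ)).obj K
  let e : DerivedCategory.Q.obj ((pullCxF (specHom φ.hom ≫ hU.fromSpec)).obj P) ≅
      (DCoh.tildeD (CommRingCat.of B)).obj (DRing.toD K') :=
    (DerivedCategory.Q.mapIso (pullCxCompIso (specHom φ.hom) hU.fromSpec P)).symm ≪≫ i.symm ≪≫
      DerivedCategory.Q.mapIso ((tildePullCxIso φ.hom).app K) ≪≫
      ((tilde.functor (CommRingCat.of B)).mapDerivedCategoryFactors.app K').symm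
  have h2 : DRing.IsPseudoCoherent B m (DRing.toD K') :=
    (isPseudoCoherentD_tildeD_iff (A := B) (DRing.toD K') m).1 (isPseudoCoherentD_of_iso h1 e)
  letI : Algebra A B := φ.hom.toAlgebra
  haveI : Module.FaithfullyFlat A B := hφ
  have h3 : DRing.IsPseudoCoherent A m (DRing.toD K) := (Groth.Agent.S6941.result (R := A) (R' := B) K m).1 h2
  exact isPseudoCoherentD_of_iso ((isPseudoCoherentD_tildeD_iff (A := A) M m).2
    (GrothLib.DerBC.isPseudoCoherent_of_iso eK h3)) eM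

end GrothLib.RelAmp22
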