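import Groth.Agent.Lib.RelAmp22.Charts
import Groth.Agent.Lib.RelAmp22.BaseChange
import Groth.Agent.Lib.RelAmp22.FFDesc
import Groth.Agent.Lib.OX.PCohQCoh
import Groth.Agent.Lib.DualCx22.FibreBounded
import Groth.Agent.Lib.DCxRing.FibreAmp

/-!
# Relative perfectness from bounded below fibres
-/

set_option autoImplicit false
set_option maxHeartbeats 1000000
set_option linter.style.haveILetI false
universe u

open CategoryTheory CategoryTheory.Limits AlgebraicGeometry HomologicalComplex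
open scoped TensorProduct

attribute [local instance] HasDerivedCategory.standard

namespace GrothLib.RelAmp22

open GrothLib.OX

variable {X S : Scheme.{u}}

/-- The cohomology sheaves vanish below `a` at `x`. -/
def StalkGE (a : ℤ) (K : DCoh.D X) (x : X) : Prop := ∀ i, i < a → IsZero ((stalk x).obj (DCoh.HD K i))

theorem stalkGE_iso {a : ℤ} {K L : DCoh.D X} (e : K ≅ L) {x : X} (h : StalkGE a K x) : StalkGE a L x :=
  fun i hi => (h i hi).of_iso ((stalk x).mapIso ((DerivedCategory.homologyFunctor _ i).mapIso e.symm))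

theorem stalkGE_of_isGE {U : Scheme.{u}} (j : U ⟶ X) [IsOpenImmersion j] {a : ℤ} {K : DCoh.D X}
    (h : ((resD j).obj K).IsGE a) (y : U) : StalkGE a K (j y) := fun i hi => by
  have hz : IsZero ((Scheme.Modules.restrictFunctor j).obj (DCoh.HD K i)) :=
    (DerivedCategory.isZero_of_isGE _ a i hi).of_iso (HDResIso j K i).symm
  rw [IsZero.iff_id_eq_zero, ← CategoryTheory.Functor.map_id]
  refine stalk_map_zero_of_restrictZero j (𝟙 (DCoh.HD K i)) y (hz.eq_of_src _ _)

theorem stalkGE_resD {U : Scheme.{u}} (j : U ⟶ X) [IsOpenImmersion j] {a : ℤ} {K : DCoh.D X} {y : U}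
    (h : StalkGE a K (j y)) : StalkGE a ((resD j).obj K) y := fun i hi =>
  ((ModuleCat.extendScalars (j.stalkMap y).hom).map_isZero (h i hi)).of_iso
    ((stalk y).mapIso (HDResIso j K i ≪≫ (Scheme.Modules.restrictFunctorIsoPullback j).app _) ≪≫
      (pullStalkIso j y).app (DCoh.HD K i))

theorem isGE_of_stalkGE {a : ℤ} {K : DCoh.D X} (h : ∀ x, StalkGE a K x) : K.IsGE a :=
  (DerivedCategory.isGE_iff _ _).2 fun i hi => (GrothLib.OX.isZero_iff _).2 fun x => h x i hi

theorem exists_isGE_of_compact [CompactSpace X] {K : DCoh.D X}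
    (h : ∀ x : X, ∃ (V : X.Opens) (a : ℤ), x ∈ V ∧ ∀ y ∈ V, StalkGE a K y) : ∃ a : ℤ, K.IsGE a := by
  choose V a hx hV using h
  obtain ⟨t, ht⟩ := isCompact_univ.elim_finite_subcover (fun x => ((V x : X.Opens) : Set X))
    (fun x => (V x).isOpen) fun x _ => Set.mem_iUnion.2 ⟨x, hx x⟩
  obtain ⟨lo, hlo⟩ := (t.image a).bddBelow
  refine ⟨lo, isGE_of_stalkGE fun x i hi => ?_⟩
  obtain ⟨z, hz, hxz⟩ := Set.mem_iUnion₂.1 (ht (Set.mem_univ x))
  exact hV z x hxz i (lt_of_lt_of_le hi (hlo (Finset.mem_image_of_mem a hz)))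

theorem stalkGE_of_amp (f : X ⟶ S) {a b : ℤ} {K : DCoh.D X} {x : X} (h : AmpAt f a b K x) : StalkGE a K x := by
  let F := DerivedCategory.Q.objPreimage K
  let eF : DerivedCategory.Q.obj F ≅ K := DerivedCategory.Q.objObjPreimageIso K
  refine stalkGE_iso eF fun i hi => ?_
  have hz : IsZero ((relStalk f x).obj (F.homology i)) :=
    ((exactAt_iff_isZero_homology _ _).1 (exactAt_relStalk f (ampAt_of_iso f eF.symm h) i (Or.inl hi))).of_iso
      ((F.sc i).mapHomologyIso (relStalk f x)).symm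
  haveI : Subsingleton ((relStalk f x).obj (F.homology i)) := ModuleCat.subsingleton_of_isZero hz
  haveI : Subsingleton ((stalk x).obj (F.homology i)) := ⟨fun p q => (inferInstance :
    Subsingleton ((relStalk f x).obj (F.homology i))).elim p q⟩
  exact (ModuleCat.isZero_of_subsingleton _).of_iso ((stalk x).mapIso (hdIso F i))

/-- Bounded below, from finite relative tor dimension. -/
theorem exists_isGE_of_locTor {f : X ⟶ S} [Flat f] {K : DCoh.D X} (h : DCoh.LocHasFiniteRelTorDim f K) (x : X) :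
    ∃ (V : X.Opens) (a : ℤ), x ∈ V ∧ ((resD V.ι).obj K).IsGE a := by
  obtain ⟨V, a, b, hx, hV⟩ := (locHasFiniteRelTorDim_iff f K).1 h x
  exact ⟨V, a, hx, isGE_of_stalkGE fun y => stalkGE_resD V.ι (stalkGE_of_amp f (hV _ y.2))⟩

theorem isPullback_comp_mono {P A B C D : Scheme.{u}} {fst : P ⟶ A} {snd : P ⟶ B} {a : A ⟶ C} {b : B ⟶ C}
    (h : IsPullback fst snd a b) (i : C ⟶ D) [Mono i] : IsPullback fst snd (a ≫ i) (b ≫ i) := by
  have hp := h.paste_vert (IsPullback.of_horiz_isIso_mono (fst := 𝟙 B) (snd := b) (f := b ≫ i) (g := i) ⟨by simp⟩).flip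
  simpa using hp

/-- The fibre over an affine chart. -/
theorem exists_fibre_chart (f : X ⟶ S) {U : X.Opens} {V : S.Opens} (hU : IsAffineOpen U) (hV : IsAffineOpen V)
    (hUV : U ≤ f ⁻¹ᵁ V) (p : Spec Γ(S, V)) :
    letI := (f.appLE V U hUV).hom.toAlgebra
    ∃ h : Spec (CommRingCat.of (Γ(X, U) ⊗[Γ(S, V)] p.asIdeal.ResidueField)) ⟶ f.fiber (hV.fromSpec p),
      IsOpenImmersion h ∧ h ≫ f.fiberι (hV.fromSpec p) =
        Spec.map (CommRingCat.ofHom Algebra.TensorProduct.includeLeftRingHom) ≫ hU.fromSpec := by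
  letI := (f.appLE V U hUV).hom.toAlgebra
  let R : Type u := Γ(S, V)
  let A : Type u := Γ(X, U)
  let κ : Type u := p.asIdeal.ResidueField
  let a : Spec (CommRingCat.of κ) ⟶ Spec Γ(S, V) := Spec.map (CommRingCat.ofHom (algebraMap R κ))
  let σ : Spec (CommRingCat.of κ) ⟶ Spec (S.residueField (hV.fromSpec p)) :=
    Spec.map (Scheme.Spec.residueFieldIso Γ(S, V) p).hom ≫ Spec.map (hV.fromSpec.residueFieldMap p)
  haveI : IsIso σ := inferInstance
  have hσ : σ ≫ S.fromSpecResidueField (hV.fromSpec p) = a ≫ hV.fromSpec := by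
    simp only [σ, Category.assoc, Scheme.Hom.SpecMap_residueFieldMap_fromSpecResidueField]
    rw [← Scheme.Spec.map_residueFieldIso_inv_eq_fromSpecResidueField, ← Category.assoc, ← Category.assoc,
      ← Spec.map_comp, Iso.inv_hom_id, Spec.map_id, Category.id_comp]
  let inA : Spec (CommRingCat.of (A ⊗[R] κ)) ⟶ Spec Γ(X, U) :=
    Spec.map (CommRingCat.ofHom (Algebra.TensorProduct.includeLeftRingHom : A →+* A ⊗[R] κ))
  let inκ : Spec (CommRingCat.of (A ⊗[R] κ)) ⟶ Spec (CommRingCat.of κ) :=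
    Spec.map (CommRingCat.ofHom (Algebra.TensorProduct.includeRight : κ →ₐ[R] A ⊗[R] κ).toRingHom)
  have s1 : IsPullback inκ inA a (Spec.map (f.appLE V U hUV)) :=
    (isPullback_SpecMap_of_isPushout _ _ _ _ (CommRingCat.isPushout_tensorProduct R A κ)).flip
  have s2 := isPullback_comp_mono s1 hV.fromSpec
  rw [IsAffineOpen.SpecMap_appLE_fromSpec f hV hU hUV, ← hσ] at s2
  have hw : (inA ≫ hU.fromSpec) ≫ f = (inκ ≫ σ) ≫ S.fromSpecResidueField (hV.fromSpec p) := by
    rw [Category.assoc, Category.assoc, ← s2.w]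
  let h : Spec (CommRingCat.of (A ⊗[R] κ)) ⟶ f.fiber (hV.fromSpec p) :=
    pullback.lift (inA ≫ hU.fromSpec) (inκ ≫ σ) hw
  refine ⟨h, ?_, pullback.lift_fst _ _ _⟩
  have t : IsPullback (pullback.snd f (S.fromSpecResidueField (hV.fromSpec p)))
      (pullback.fst f (S.fromSpecResidueField (hV.fromSpec p))) (S.fromSpecResidueField (hV.fromSpec p)) f :=
    (IsPullback.of_hasPullback _ _).flip
  have s3 : IsPullback (inκ ≫ σ) inA (S.fromSpecResidueField (hV.fromSpec p)) (hU.fromSpec ≫ f) := by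
    refine s2.of_iso (Iso.refl _) (asIso σ) (Iso.refl _) (Iso.refl _) ?_ ?_ ?_ ?_ <;> simp
  have s4 := IsPullback.of_right' s3 t
  have : IsPullback h inA (pullback.fst f (S.fromSpecResidueField (hV.fromSpec p))) hU.fromSpec := by
    have hh : h = t.lift (inκ ≫ σ) (inA ≫ hU.fromSpec) (by rw [s3.w, Category.assoc]) := pullback.hom_ext ((pullback.lift_fst _ _ _).trans (t.lift_snd _ _ _).symm) ((pullback.lift_snd _ _ _).trans (t.lift_fst _ _ _).symm)
    rw [hh]
    exact s4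
  exact MorphismProperty.of_isPullback this.flip (inferInstanceAs (IsOpenImmersion hU.fromSpec))

/-- Exactness after base change to a fibre, on global sections. -/
theorem exists_fibre_bound {f : X ⟶ S} [Flat f] {U : X.Opens} {V : S.Opens} (hU : IsAffineOpen U)
    (hV : IsAffineOpen V) (hUV : U ≤ f ⁻¹ᵁ V) [PreservesFiniteLimits (tilde.functor Γ(X, U))]
    {E : DCoh.D X} {K : DRing.Cx Γ(X, U)} (hK : GrothLib.KF.IsKFlat K)
    (e : (resD hU.fromSpec).obj E ≅ (DCoh.tildeD Γ(X, U)).obj (DRing.toD K)) (p : Spec Γ(S, V))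
    [DCoh.HasLpull (f.fiberι (hV.fromSpec p))]
    (hfib : ∀ y : ↥(f.fiber (hV.fromSpec p)), ∃ (W : (f.fiber (hV.fromSpec p)).Opens) (a : ℤ), y ∈ W ∧
      ((resD W.ι).obj ((DCoh.Lpull (f.fiberι (hV.fromSpec p))).obj E)).IsGE a) :
    letI := (f.appLE V U hUV).hom.toAlgebra
    ∃ a : ℤ, ∀ i, i < a →
      GrothLib.DR.TExact ((DRing.restrictCx (algebraMap Γ(S, V) Γ(X, U))).obj K) p.asIdeal.ResidueField i := by
  letI := (f.appLE V U hUV).hom.toAlgebra
  let A : Type u := Γ(X, U)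
  let C : Type u := Γ(X, U) ⊗[Γ(S, V)] p.asIdeal.ResidueField
  let ψ : A →+* C := Algebra.TensorProduct.includeLeftRingHom
  let ι₀ := f.fiberι (hV.fromSpec p)
  obtain ⟨h, hh, hhι⟩ := exists_fibre_chart f hU hV hUV p
  haveI := hh
  haveI : PreservesFiniteLimits (tilde.functor (CommRingCat.of A)) := preservesFiniteLimits_tildeGen _
  haveI : PreservesFiniteLimits (tilde.functor (CommRingCat.of C)) := preservesFiniteLimits_tildeGen _
  obtain ⟨P, hP, ⟨eP⟩⟩ := exists_kflat_rep E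
  obtain ⟨v⟩ := lpull_value ι₀ P hP
  let L := (DCoh.Lpull ι₀).obj E
  obtain ⟨a, ha⟩ := exists_isGE_of_compact (K := (resD h).obj L) fun z => by
    obtain ⟨W, a, hy, hW⟩ := hfib (h z)
    exact ⟨h ⁻¹ᵁ W, a, hy, fun w hw => stalkGE_resD h (stalkGE_of_isGE W.ι hW ⟨h w, hw⟩)⟩
  let K' := ((ModuleCat.extendScalars ψ).mapHomologicalComplex (ComplexShape.up ℤ)).obj K
  let T := ((tilde.functor (CommRingCat.of A)).mapHomologicalComplex (ComplexShape.up ℤ)).obj K
  let eT : DerivedCategory.Q.obj T ≅ DerivedCategory.Q.obj ((pullCxF hU.fromSpec).obj P) :=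
    ((tilde.functor (CommRingCat.of A)).mapDerivedCategoryFactors.app K).symm ≪≫ e.symm ≪≫
      (resD hU.fromSpec).mapIso eP.symm ≪≫ (resDFac hU.fromSpec).app P ≪≫
      DerivedCategory.Q.mapIso ((resPullCxIso hU.fromSpec).app P)
  obtain ⟨i₀⟩ := nonempty_iso_pullCx (specHom ψ) (kflat_tilde hK) (isKFlat_pullback hU.fromSpec hP) eT
  have key : Nonempty (DerivedCategory.Q.obj ((pullCxF (h ≫ ι₀)).obj P) ≅
      (DCoh.tildeD (CommRingCat.of C)).obj (DRing.toD K')) := by
    rw [show h ≫ ι₀ = specHom ψ ≫ hU.fromSpec from hhι]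
    exact ⟨(DerivedCategory.Q.mapIso (pullCxCompIso (specHom ψ) hU.fromSpec P)).symm ≪≫ i₀.symm ≪≫
      DerivedCategory.Q.mapIso ((tildePullCxIso ψ).app K) ≪≫
      ((tilde.functor (CommRingCat.of C)).mapDerivedCategoryFactors.app K').symm⟩
  obtain ⟨eK⟩ := key
  let eL : (resD h).obj L ≅ (DCoh.tildeD (CommRingCat.of C)).obj (DRing.toD K') :=
    (resD h).mapIso ((DCoh.Lpull ι₀).mapIso eP.symm ≪≫ v) ≪≫ (resDFac h).app _ ≪≫
      DerivedCategory.Q.mapIso ((resPullCxIso h).app _ ≪≫ pullCxCompIso h ι₀ P) ≪≫ eK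
  refine ⟨a, fun i hi => ?_⟩
  have hz : IsZero ((tilde.functor (CommRingCat.of C)).obj ((DerivedCategory.homologyFunctor _ i).obj (DRing.toD K'))) :=
    (DerivedCategory.isZero_of_isGE ((resD h).obj L) a i hi).of_iso
      ((HDTildeIso (R := CommRingCat.of C) (DRing.toD K') i).symm ≪≫
        (DerivedCategory.homologyFunctor _ i).mapIso eL.symm)
  have hz' : IsZero ((DerivedCategory.homologyFunctor (ModuleCat.{u} C) i).obj (DRing.toD K')) := by
    rw [IsZero.iff_id_eq_zero]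
    haveI := faithful_tildeGen (CommRingCat.of C)
    exact (tilde.functor (CommRingCat.of C)).map_injective (hz.eq_of_src _ _)
  have hex : K'.ExactAt i :=
    (exactAt_iff_isZero_homology _ _).2 (hz'.of_iso ((DerivedCategory.homologyFunctorFactors _ i).app K').symm)
  refine (GrothLib.DR.tExact_tensor_iff K p.asIdeal.ResidueField i).1 ?_
  have h' := (GrothLib.DR.exactAt_bc_iff ψ K i).1 hex
  have hψ : ψ.toAlgebra = (Algebra.TensorProduct.leftAlgebra : Algebra A C) :=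
    Algebra.algebra_ext _ _ fun r => rfl
  rw [hψ] at h'
  exact h'

/-- **Finite relative tor dimension from bounded below fibres.** -/
theorem locTor_of_fibres {f : X ⟶ S} [Flat f] [LocallyOfFinitePresentation f] [∀ s : S, DCoh.HasLpull (f.fiberι s)]
    {E : DCoh.D X} (hE : ∀ m, DCoh.IsPseudoCoherentD m E)
    (h0 : ∀ x : X, ∃ (V : X.Opens) (a : ℤ), x ∈ V ∧ ((resD V.ι).obj E).IsGE a)
    (hfib : ∀ (s : S) (y : ↥(f.fiber s)), ∃ (W : (f.fiber s).Opens) (a : ℤ), y ∈ W ∧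
      ((resD W.ι).obj ((DCoh.Lpull (f.fiberι s)).obj E)).IsGE a) :
    DCoh.LocHasFiniteRelTorDim f E := by
  have hQ : DCoh.IsQCohD E := fun i => isQCoh_HD_of_pseudoCoherent (hE (i - 1)) (by omega)
  refine (relPerf_of_charts fun x => ?_).2
  obtain ⟨V, hV, hxV, -⟩ := exists_isAffineOpen_mem_and_subset (x := f x) (U := ⊤) trivial
  obtain ⟨U, hU, hx, hUV⟩ := exists_isAffineOpen_mem_and_subset (x := x) (U := f ⁻¹ᵁ V) hxV
  haveI := preservesFiniteLimits_tildeGen Γ(X, U)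
  obtain ⟨M, ⟨eM⟩⟩ := exists_tildeD_rep hQ hU.fromSpec
  letI := (f.appLE V U hUV).hom.toAlgebra
  haveI : Module.Flat Γ(S, V) Γ(X, U) := f.flat_appLE hV hU hUV
  haveI : Algebra.FinitePresentation Γ(S, V) Γ(X, U) := f.finitePresentation_appLE hV hU hUV
  have hpc : DRing.IsPseudoCoherent' Γ(X, U) M := GrothLib.DR.isPseudoCoherent'_of_forall fun m =>
    (isPseudoCoherentD_tildeD_iff (A := Γ(X, U)) M m).1
      (isPseudoCoherentD_of_iso (isPseudoCoherentD_resD (hE m) hU.fromSpec) eM.symm)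
  obtain ⟨K, c, hc, hKf, ⟨eK⟩⟩ := hpc
  have hKflat : DRing.TermwiseFlat K :=
    GrothLib.DR.termwiseFlat_of_projective fun i => GrothLib.DR.projective_of_finiteFree hKf i
  let e : (resD hU.fromSpec).obj E ≅ (DCoh.tildeD Γ(X, U)).obj (DRing.toD K) :=
    eM.symm ≪≫ (DCoh.tildeD Γ(X, U)).mapIso eK.symm
  obtain ⟨a₀, ha₀⟩ := exists_isGE_of_compact (K := (resD hU.fromSpec).obj E) fun z => by
    obtain ⟨W, a, hy, hW⟩ := h0 (hU.fromSpec z)
    exact ⟨hU.fromSpec ⁻¹ᵁ W, a, hy, fun w hw => stalkGE_resD hU.fromSpec (stalkGE_of_isGE W.ι hW ⟨hU.fromSpec w, hw⟩)⟩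
  haveI := fun p : PrimeSpectrum Γ(S, V) =>
    GrothLib.KF.hasLTensor (A := Γ(S, V)) (ModuleCat.of Γ(S, V) p.asIdeal.ResidueField)
  have hR : DRing.HasFiniteTorDimCx Γ(S, V) ((DRing.restrictD (algebraMap Γ(S, V) Γ(X, U))).obj (DRing.toD K)) := by
    refine GrothLib.DualCx22.hasFiniteTorDimCx_of_fibres (DRing.toD K) ⟨K, c, hc, hKf, ⟨Iso.refl _⟩⟩
      ⟨a₀, fun i hi => ?_⟩ fun p => ?_
    · refine ModuleCat.subsingleton_of_isZero ?_
      rw [IsZero.iff_id_eq_zero]
      refine (tilde.functor Γ(X, U)).map_injective ?_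
      exact (((DerivedCategory.isZero_of_isGE ((resD hU.fromSpec).obj E) a₀ i hi)).of_iso
        ((HDTildeIso (R := Γ(X, U)) (DRing.toD K) i).symm ≪≫
          (DerivedCategory.homologyFunctor _ i).mapIso e.symm)).eq_of_src _ _
    · obtain ⟨a, ha⟩ := exists_fibre_bound hU hV hUV (GrothLib.KF.isKFlat_of_vanishesAbove hc hKflat) e p
        (hfib (hV.fromSpec p))
      have hv : DRing.VanishesAbove ((DRing.restrictCx (algebraMap Γ(S, V) Γ(X, U))).obj K) c := fun j hj =>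
        (ModuleCat.restrictScalars (algebraMap Γ(S, V) Γ(X, U))).map_isZero (hc j hj)
      obtain ⟨e'⟩ := GrothLib.KF.lTensor_value (ModuleCat.of Γ(S, V) p.asIdeal.ResidueField)
        (GrothLib.KF.isKFlat_of_vanishesAbove hv (GrothLib.DR.termwiseFlat_restrict hKflat))
      refine ⟨a, fun i hi => GrothLib.DR.subsingleton_HD_of_iso ?_ i
        ((GrothLib.DR.exactAt_iff _ i).1 ((GrothLib.DR.tExact_iff _ _ i).1 (ha i hi)))⟩
      exact ((DRing.LTensor Γ(S, V) _).mapIso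
        ((GrothLib.DR.restrictToDIso (algebraMap Γ(S, V) Γ(X, U)) K)) ≪≫ e').symm
  obtain ⟨a, b, hab⟩ := hR
  exact ⟨U, hU, hx, amp_of_chart hU hV hUV (DRing.toD K) e ⟨⟨K, c, hc, hKf, ⟨Iso.refl _⟩⟩, a, b, hab⟩⟩

end GrothLib.RelAmp22
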