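import Groth.Agent.Lib.RelAmp22.Stalk
import Groth.Agent.Lib.OX.TildeKFlat
import Groth.Agent.Lib.KSix19.AmpSmooth
import Groth.Agent.Lib.DCxRing.FaithfullyFlat
import Groth.Agent.Lib.DCxRing.TorLocalMax

/-!
# Relative tor amplitude of an associated complex of sheaves
-/

set_option autoImplicit false
set_option maxHeartbeats 1000000
set_option linter.style.haveILetI false
universe u

open CategoryTheory CategoryTheory.Limits AlgebraicGeometry HomologicalComplex MonoidalCategory

attribute [local instance] HasDerivedCategory.standard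

namespace GrothLib.RelAmp22

open GrothLib.OX
open GrothLib.KSix19 (AmpOver)

section Ring

variable {R A B : Type u} [CommRing R] [CommRing A] [CommRing B]

/-- A flat base change keeps the amplitude over the base. -/
theorem ampOver_bc_of_flat (φ : R →+* A) (ψ : A →+* B) (hψ : ψ.Flat) (K : DRing.Cx A) {a b : ℤ}
    (h : AmpOver φ a b K) : AmpOver (ψ.comp φ) a b ((GrothLib.DR.bc ψ).obj K) := by
  letI : Algebra R A := φ.toAlgebra
  letI : Algebra A B := ψ.toAlgebra
  letI : Algebra R B := (ψ.comp φ).toAlgebra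
  haveI : IsScalarTower R A B := IsScalarTower.of_algebraMap_eq fun _ => rfl
  haveI : Module.Flat A B := hψ
  refine (GrothLib.KF.hasTorAmplitudeIn_iff_resolution _ a b).2 fun N i hi => ?_
  have h0 := (GrothLib.KF.hasTorAmplitudeIn_iff_resolution _ a b).1 h N i hi
  revert h0
  generalize (projectiveResolution N).cochainComplex = Q
  intro h0
  have h1 : (K ⊗ (GrothLib.DR.bc φ).obj Q).ExactAt i := (GrothLib.DR.exactAt_restrict_tensor_iff φ K Q i).1 h0
  refine (GrothLib.KF.exactAt_iff_of_iso (whiskerRightIso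
    (GrothLib.DR.restrictCompIso (R := R) (A := A) ((GrothLib.DR.bc ψ).obj K)) Q) i).2 ?_
  refine (GrothLib.DR.exactAt_restrict_tensor_iff (algebraMap R A) _ Q i).2 ?_
  have : (((DRing.restrictCx ψ).obj ((GrothLib.DR.bc ψ).obj K)) ⊗ (GrothLib.DR.bc φ).obj Q).ExactAt i := by
    let M := (ModuleCat.restrictScalars ψ).obj (ModuleCat.of B B)
    let S := (single (ModuleCat.{u} A) (ComplexShape.up ℤ) 0).obj M
    let Q' := (GrothLib.DR.bc φ).obj Q
    have e : ((DRing.restrictCx ψ).obj ((GrothLib.DR.bc ψ).obj K)) ⊗ Q' ≅ DRing.tensorCx (K ⊗ Q') M :=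
      whiskerRightIso (GrothLib.DR.restrictBcIso ψ K ≪≫ GrothLib.KF.singleIso K M) Q' ≪≫ α_ K S Q' ≪≫
        whiskerLeftIso K (GrothLib.KF.tensorCxSymm Q' S) ≪≫ (α_ K Q' S).symm ≪≫
          (GrothLib.KF.singleIso (K ⊗ Q') M).symm
    haveI := GrothLib.DR.preservesFiniteLimits_extendScalars ψ hψ
    haveI : PreservesFiniteColimits (ModuleCat.extendScalars.{u, u, u} ψ) :=
      PreservesColimitsOfSize.preservesFiniteColimits.{0, 0} _
    refine (GrothLib.KF.exactAt_iff_of_iso e i).2 ?_
    refine (GrothLib.DR.tExact_iff (K ⊗ Q') M i).1 ((GrothLib.DR.exactAt_bc_iff ψ (K ⊗ Q') i).1 ?_)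
    rw [exactAt_iff_isZero_homology] at h1 ⊢
    exact ((ModuleCat.extendScalars.{u, u, u} ψ).map_isZero h1).of_iso (GrothLib.DR.mapHomologyIso _ _ i)
  exact this

theorem restrict_flat_of_bijective {χ : A →+* B} (hχ : Function.Bijective χ) :
    DRing.HasTorAmplitudeIn A (-((0 : ℕ) : ℤ)) 0
      (Dual.inD A ((ModuleCat.restrictScalars.{u} χ).obj (ModuleCat.of B B))) := by
  haveI := (GrothLib.KSix19.flat_restrict_iff χ).2 (RingHom.Flat.of_bijective hχ)
  simpa using GrothLib.DR.hasTorAmplitudeIn_flat ((ModuleCat.restrictScalars.{u} χ).obj (ModuleCat.of B B))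

/-- Restriction along a ring isomorphism. -/
theorem ampOver_of_bijective {χ : A →+* B} (hχ : Function.Bijective χ) (K : DRing.Cx B) {a b : ℤ}
    (h : DRing.HasTorAmplitudeIn B a b (DRing.toD K)) : AmpOver χ a b K := by
  have := GrothLib.KSix19.amp_restrict χ 0 (restrict_flat_of_bijective hχ) h
  simp only [Nat.cast_zero, sub_zero] at this
  exact GrothLib.KSix19.amp_of_iso ((ModuleCat.restrictScalars χ).mapDerivedCategoryFactors.app K) this

/-- Base change along a ring isomorphism is undone by restriction. -/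
theorem nonempty_restrict_bc_of_bijective {χ : A →+* B} (hχ : Function.Bijective χ) (K : DRing.Cx A) :
    Nonempty ((DRing.restrictCx χ).obj ((GrothLib.DR.bc χ).obj K) ≅ K) := by
  haveI : (ModuleCat.restrictScalars.{u} χ).IsEquivalence :=
    (ModuleCat.restrictScalarsEquivalenceOfRingEquiv (RingEquiv.ofBijective χ hχ)).isEquivalence_functor
  let adj := ModuleCat.extendRestrictScalarsAdj.{u, u, u} χ
  haveI : (ModuleCat.extendScalars.{u, u, u} χ).IsEquivalence := adj.isEquivalence_left_of_isEquivalence_right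
  exact ⟨(HomologicalComplex.Hom.isoOfComponents (fun i => (asIso adj.unit).app (K.X i))
    (fun i j _ => (adj.unit.naturality (K.d i j)).symm)).symm⟩

end Ring

section Spec

variable {R A : Type u} [CommRing R] [CommRing A] (φ : R →+* A)

/-- The map of spectra. -/
noncomputable abbrev specMap : Spec (CommRingCat.of A) ⟶ Spec (CommRingCat.of R) :=
  Spec.map (CommRingCat.ofHom φ)

theorem stalkMap_comp_toStalk (x : Spec (CommRingCat.of A)) :
    ((specMap φ).stalkMap x).hom.comp (specToStalk (CommRingCat.of R) ((specMap φ) x)) =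
      (specToStalk (CommRingCat.of A) x).comp φ := by
  refine RingHom.ext fun r => ?_
  change (specMap φ).stalkMap x ((Spec (CommRingCat.of R)).presheaf.germ ⊤ ((specMap φ) x) trivial
    ((Scheme.ΓSpecIso (CommRingCat.of R)).inv r)) = (Spec (CommRingCat.of A)).presheaf.germ ⊤ x trivial
      ((Scheme.ΓSpecIso (CommRingCat.of A)).inv (φ r))
  refine (Scheme.Hom.germ_stalkMap_apply _ ⊤ x trivial _).trans (congrArg _ ?_)
  exact (ConcreteCategory.congr_hom (Scheme.ΓSpecIso_inv_naturality (CommRingCat.ofHom φ)) r).symm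

/-- The stalk at a point of an associated complex. -/
theorem nonempty_relStalk_tilde (K : DRing.Cx A) (x : Spec (CommRingCat.of A)) :
    Nonempty (DRing.toD ((relStalkCx (specMap φ) x).obj
        (((tilde.functor (CommRingCat.of A)).mapHomologicalComplex (ComplexShape.up ℤ)).obj K)) ≅
      DRing.toD ((DRing.restrictCx ((specMap φ).stalkMap x).hom).obj
        ((GrothLib.DR.bc (specToStalk (CommRingCat.of A) x)).obj K))) :=
  let η := Functor.isoWhiskerRight (tildeStalkIso (CommRingCat.of A) x)
    (ModuleCat.restrictScalars ((specMap φ).stalkMap x).hom)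
  ⟨DerivedCategory.Q.mapIso (HomologicalComplex.Hom.isoOfComponents (fun i => η.app (K.X i))
    (fun i j _ => (η.hom.naturality (K.d i j)).symm))⟩

variable [PreservesFiniteLimits (tilde.functor (CommRingCat.of A))]

theorem ampAt_tilde_iff {a b : ℤ} (K : DRing.Cx A) (x : Spec (CommRingCat.of A)) :
    AmpAt (specMap φ) a b ((DCoh.tildeD (CommRingCat.of A)).obj (DRing.toD K)) x ↔
      AmpOver ((specMap φ).stalkMap x).hom a b ((GrothLib.DR.bc (specToStalk (CommRingCat.of A) x)).obj K) := by
  let T := ((tilde.functor (CommRingCat.of A)).mapHomologicalComplex (ComplexShape.up ℤ)).obj K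
  let e : (DCoh.tildeD (CommRingCat.of A)).obj (DRing.toD K) ≅ DerivedCategory.Q.obj T :=
    (tilde.functor (CommRingCat.of A)).mapDerivedCategoryFactors.app K
  obtain ⟨w⟩ := nonempty_relStalk_tilde φ K x
  exact ⟨fun h => GrothLib.KSix19.amp_of_iso w ((ampAt_Q_iff _ T x).1 (ampAt_of_iso _ e h)),
    fun h => ampAt_of_iso _ e.symm ((ampAt_Q_iff _ T x).2 (GrothLib.KSix19.amp_of_iso w.symm h))⟩

/-- Amplitude over the base gives stalkwise amplitude. -/
theorem ampAt_tilde_of_amp {a b : ℤ} (M : Dual.D A)
    (h : DRing.HasTorAmplitudeIn R a b ((DRing.restrictD φ).obj M)) (x : Spec (CommRingCat.of A)) :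
    AmpAt (specMap φ) a b ((DCoh.tildeD (CommRingCat.of A)).obj M) x := by
  let K := DerivedCategory.Q.objPreimage M
  let e : DRing.toD K ≅ M := DerivedCategory.Q.objObjPreimageIso M
  refine ampAt_of_iso _ ((DCoh.tildeD (CommRingCat.of A)).mapIso e) ((ampAt_tilde_iff φ K x).2 ?_)
  let ψ := specToStalk (CommRingCat.of A) x
  let ι := specToStalk (CommRingCat.of R) ((specMap φ) x)
  have hK : AmpOver φ a b K := GrothLib.KSix19.amp_of_iso
    ((DRing.restrictD φ).mapIso e.symm ≪≫ (ModuleCat.restrictScalars φ).mapDerivedCategoryFactors.app K) h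
  letI : Algebra A ((Spec (CommRingCat.of A)).presheaf.stalk x) :=
    (StructureSheaf.toStalk (CommRingCat.of A) x).hom.toAlgebra
  haveI : IsLocalization.AtPrime ((Spec (CommRingCat.of A)).presheaf.stalk x) x.asIdeal :=
    StructureSheaf.IsLocalization.to_stalk (CommRingCat.of A) x
  have hψ : ψ.Flat :=
    RingHom.flat_algebraMap_iff.2 (IsLocalization.flat ((Spec (CommRingCat.of A)).presheaf.stalk x) x.asIdeal.primeCompl)
  have h1 := ampOver_bc_of_flat φ ψ hψ K hK
  rw [← stalkMap_comp_toStalk φ x] at h1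
  have h2 := (GrothLib.KSix19.amp_congr ι ((specMap φ).stalkMap x).hom _ a b).1 h1
  letI : Algebra R ((Spec (CommRingCat.of R)).presheaf.stalk ((specMap φ) x)) :=
    (StructureSheaf.toStalk (CommRingCat.of R) ((specMap φ) x)).hom.toAlgebra
  haveI : IsLocalization.AtPrime ((Spec (CommRingCat.of R)).presheaf.stalk ((specMap φ) x))
      ((specMap φ) x).asIdeal := StructureSheaf.IsLocalization.to_stalk (CommRingCat.of R) ((specMap φ) x)
  exact GrothLib.KSix19.amp_of_isLocalization ((specMap φ) x).asIdeal.primeCompl h2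

/-- Stalkwise amplitude at the closed points gives amplitude over the base. -/
theorem amp_of_ampAt_tilde {a b : ℤ} (M : Dual.D A)
    (h : ∀ x, AmpAt (specMap φ) a b ((DCoh.tildeD (CommRingCat.of A)).obj M) x) :
    DRing.HasTorAmplitudeIn R a b ((DRing.restrictD φ).obj M) := by
  let K := DerivedCategory.Q.objPreimage M
  let e : DRing.toD K ≅ M := DerivedCategory.Q.objObjPreimageIso M
  letI : Algebra R A := φ.toAlgebra
  refine GrothLib.KSix19.amp_of_iso (((ModuleCat.restrictScalars φ).mapDerivedCategoryFactors.app K).symm ≪≫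
    (DRing.restrictD φ).mapIso e) (GrothLib.DR.hasTorAmplitudeIn_restrict_of_maximal K a b fun m hm => ?_)
  let x : Spec (CommRingCat.of A) := (⟨m, hm.isPrime⟩ : PrimeSpectrum A)
  let ψ := specToStalk (CommRingCat.of A) x
  let ι := specToStalk (CommRingCat.of R) ((specMap φ) x)
  have hx := (ampAt_tilde_iff φ K x).1 (ampAt_of_iso _ ((DCoh.tildeD (CommRingCat.of A)).mapIso e.symm) (h x))
  let A' := (Spec (CommRingCat.of A)).presheaf.stalk x
  let R' := (Spec (CommRingCat.of R)).presheaf.stalk ((specMap φ) x)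
  letI : Algebra A A' := (StructureSheaf.toStalk (CommRingCat.of A) x).hom.toAlgebra
  haveI : IsLocalization.AtPrime A' m := StructureSheaf.IsLocalization.to_stalk (CommRingCat.of A) x
  letI : Algebra R R' := (StructureSheaf.toStalk (CommRingCat.of R) ((specMap φ) x)).hom.toAlgebra
  haveI : IsLocalization.AtPrime R' (m.comap φ) :=
    StructureSheaf.IsLocalization.to_stalk (CommRingCat.of R) ((specMap φ) x)
  let τ : Localization.AtPrime m →+* A' :=
    ((IsLocalization.algEquiv m.primeCompl (Localization.AtPrime m) A').toRingEquiv : _ →+* A')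
  let σ : Localization.AtPrime (m.comap φ) →+* R' :=
    ((IsLocalization.algEquiv (m.comap φ).primeCompl (Localization.AtPrime (m.comap φ)) R').toRingEquiv : _ →+* R')
  have hτ : ∀ r, τ (algebraMap A (Localization.AtPrime m) r) = ψ r := fun r =>
    AlgEquiv.commutes (IsLocalization.algEquiv m.primeCompl (Localization.AtPrime m) A') r
  have hσ : ∀ r, σ (algebraMap R (Localization.AtPrime (m.comap φ)) r) = ι r := fun r =>
    AlgEquiv.commutes (IsLocalization.algEquiv (m.comap φ).primeCompl (Localization.AtPrime (m.comap φ)) R') r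
  let χ' := Localization.localRingHom (m.comap (algebraMap R A)) m (algebraMap R A) rfl
  have hχ : τ.comp χ' = ((specMap φ).stalkMap x).hom.comp σ := by
    refine IsLocalization.ringHom_ext (m.comap φ).primeCompl (RingHom.ext fun r => ?_)
    change τ (χ' (algebraMap R (Localization.AtPrime (m.comap φ)) r)) =
      ((specMap φ).stalkMap x).hom (σ (algebraMap R (Localization.AtPrime (m.comap φ)) r))
    rw [hσ]
    refine (congrArg τ (Localization.localRingHom_to_map (m.comap φ) m φ rfl r)).trans ?_
    exact (hτ (φ r)).trans (RingHom.congr_fun (stalkMap_comp_toStalk φ x) r).symm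
  have hτb : Function.Bijective τ :=
    (IsLocalization.algEquiv m.primeCompl (Localization.AtPrime m) A').bijective
  have hσb : Function.Bijective σ :=
    (IsLocalization.algEquiv (m.comap φ).primeCompl (Localization.AtPrime (m.comap φ)) R').bijective
  have hψ : ψ = τ.comp (algebraMap A (Localization.AtPrime m)) := RingHom.ext fun r => (hτ r).symm
  have h1 : AmpOver (((specMap φ).stalkMap x).hom.comp σ) a b ((GrothLib.DR.bc ψ).obj K) :=
    (GrothLib.KSix19.amp_congr σ ((specMap φ).stalkMap x).hom _ a b).2 (ampOver_of_bijective hσb _ hx)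
  rw [← hχ, hψ] at h1
  have h2 := (GrothLib.KSix19.amp_congr χ' τ _ a b).1 h1
  obtain ⟨w⟩ := nonempty_restrict_bc_of_bijective hτb ((GrothLib.DR.bc (algebraMap A (Localization.AtPrime m))).obj K)
  exact GrothLib.KSix19.amp_of_iso (DerivedCategory.Q.mapIso ((DRing.restrictCx χ').mapIso
    ((DRing.restrictCx τ).mapIso (GrothLib.DR.bcCompIso (algebraMap A (Localization.AtPrime m)) τ K) ≪≫ w))) h2

end Spec

/-- Amplitude along the stalk functor of the prelude. -/
theorem hasTorAmplitude_iff {X S : Scheme.{u}} (f : X ⟶ S) (a b : ℤ) (F : CochainComplex X.Modules ℤ) :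
    DerSch.HasTorAmplitude f a b F ↔ ∀ x, AmpAt f a b (DerivedCategory.Q.obj F) x := by
  refine forall_congr' fun x => ?_
  let e : DRing.toD ((DerSch.stalkCxOver f x).obj F) ≅ DRing.toD ((relStalkCx f x).obj F) :=
    DerivedCategory.Q.mapIso ((NatIso.mapHomologicalComplex
      (Functor.isoWhiskerRight (GrothLib.KSix19.stalkFunctorIso x) (ModuleCat.restrictScalars (f.stalkMap x).hom))
      (ComplexShape.up ℤ)).app F)
  exact ⟨fun h => (ampAt_Q_iff f F x).2 (GrothLib.KSix19.amp_of_iso e h),
    fun h => GrothLib.KSix19.amp_of_iso e.symm ((ampAt_Q_iff f F x).1 h)⟩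

end GrothLib.RelAmp22
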