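import Groth.Agent.Lib.RelAmp22.Fibres
import Groth.Agent.Lib.RelAmp22.Triangle
import Groth.Agent.Lib.DCxRing.Perfect
import Groth.Agent.Lib.OX.TildePerfect
import Groth.Agent.Lib.OX.PerfectLemmas
import Groth.Agent.Lib.OX.AffineLocal

/-!
# Perfection from perfect fibres
-/

set_option autoImplicit false
set_option maxHeartbeats 1000000
set_option linter.style.haveILetI false
universe u

open CategoryTheory CategoryTheory.Limits AlgebraicGeometry HomologicalComplex
open scoped TensorProduct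

attribute [local instance] HasDerivedCategory.standard

namespace GrothLib.RelAmp22

open GrothLib.OX

variable {X S : Scheme.{u}}

/-- At a closed point of a chart, a complex with perfect fibres is exact far below. -/
theorem exists_residue_bound {f : X ⟶ S} {U : X.Opens} {V : S.Opens} (hU : IsAffineOpen U)
    (hV : IsAffineOpen V) (hUV : U ≤ f ⁻¹ᵁ V)
    {E : DCoh.D X} {K : DRing.Cx Γ(X, U)} {c : ℤ} (hc : DRing.VanishesAbove K c)
    (hKflat : DRing.TermwiseFlat K)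
    (e : (resD hU.fromSpec).obj E ≅ (DCoh.tildeD Γ(X, U)).obj (DRing.toD K))
    [∀ s : S, DCoh.HasLpull (f.fiberι s)]
    (hfib : ∀ s : S, DCoh.IsPerfect ((DCoh.Lpull (f.fiberι s)).obj E))
    (Q : Ideal Γ(X, U)) [Q.IsMaximal] :
    ∃ a, ∀ i, i < a → ((GrothLib.DR.bc (Ideal.Quotient.mk Q)).obj K).ExactAt i := by
  letI := (f.appLE V U hUV).hom.toAlgebra
  let R : Type u := Γ(S, V)
  let A : Type u := Γ(X, U)
  let p : Spec Γ(S, V) := ⟨Q.comap (algebraMap Γ(S, V) Γ(X, U)), inferInstance⟩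
  let κ : Type u := p.asIdeal.ResidueField
  let C : Type u := Γ(X, U) ⊗[Γ(S, V)] p.asIdeal.ResidueField
  let ψ : A →+* C := Algebra.TensorProduct.includeLeftRingHom
  let ι₀ := f.fiberι (hV.fromSpec p)
  obtain ⟨h, hh, hhι⟩ := exists_fibre_chart f hU hV hUV p
  haveI := hh
  haveI : PreservesFiniteLimits (tilde.functor (CommRingCat.of A)) := preservesFiniteLimits_tildeGen _
  haveI : PreservesFiniteLimits (tilde.functor (CommRingCat.of C)) := preservesFiniteLimits_tildeGen _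
  haveI : PreservesFiniteLimits (tilde.functor Γ(X, U)) := preservesFiniteLimits_tildeGen _
  have hK := GrothLib.KF.isKFlat_of_vanishesAbove hc hKflat
  obtain ⟨P, hP, ⟨eP⟩⟩ := exists_kflat_rep E
  obtain ⟨v⟩ := lpull_value ι₀ P hP
  let L := (DCoh.Lpull ι₀).obj E
  let K' := ((ModuleCat.extendScalars ψ).mapHomologicalComplex (ComplexShape.up ℤ)).obj K
  let T := ((tilde.functor (CommRingCat.of A)).mapHomologicalComplex (ComplexShape.up ℤ)).obj K
  let eT : DerivedCategory.Q.obj T ≅ DerivedCategory.Q.obj ((pullCxF hU.fromSpec).obj P) :=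
    ((tilde.functor (CommRingCat.of A)).mapDerivedCategoryFactors.app K).symm ≪≫ e.symm ≪≫
      (resD hU.fromSpec).mapIso eP.symm ≪≫ (resDFac hU.fromSpec).app P ≪≫
      DerivedCategory.Q.mapIso ((resPullCxIso hU.fromSpec).app P)
  obtain ⟨i₀⟩ := nonempty_iso_pullCx (specHom ψ) (kflat_tilde hK) (isKFlat_pullback hU.fromSpec hP) eT
  have key : Nonempty (DerivedCategory.Q.obj ((pullCxF (h ≫ ι₀)).obj P) ≅
      (DCoh.tildeD (CommRingCat.of C)).obj (DRing.toD K')) := by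
    rw [show h ≫ ι₀ = specHom ψ ≫ hU.fromSpec from hhι]
    exact ⟨(DerivedCategory.Q.mapIso (pullCxCompIso (specHom ψ) hU.fromSpec P)).symm ≪≫ i₀.symm ≪≫
      DerivedCategory.Q.mapIso ((tildePullCxIso ψ).app K) ≪≫
      ((tilde.functor (CommRingCat.of C)).mapDerivedCategoryFactors.app K').symm⟩
  obtain ⟨eK⟩ := key
  let eL : (resD h).obj L ≅ (DCoh.tildeD (CommRingCat.of C)).obj (DRing.toD K') :=
    (resD h).mapIso ((DCoh.Lpull ι₀).mapIso eP.symm ≪≫ v) ≪≫ (resDFac h).app _ ≪≫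
      DerivedCategory.Q.mapIso ((resPullCxIso h).app _ ≪≫ pullCxCompIso h ι₀ P) ≪≫ eK
  have hperf : DRing.IsPerfect C (DRing.toD K') :=
    (isPerfect_tildeD_iff (A := C) _).1 (isPerfect_of_iso (isPerfect_resD (hfib _) h) eL)
  obtain ⟨-, a, b, hT⟩ := GrothLib.DR.isPerfect_iff.1 hperf
  -- the point
  letI : Field (A ⧸ Q) := Ideal.Quotient.field Q
  let g : R ⧸ p.asIdeal →+* A ⧸ Q := Ideal.quotientMap Q (algebraMap R A) le_rfl
  let f₀ : κ →+* A ⧸ Q := IsFractionRing.lift (g := g) Ideal.quotientMap_injective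
  have hf₀ : ∀ r, f₀ (algebraMap R κ r) = Ideal.Quotient.mk Q (algebraMap R A r) := fun r => by
    rw [← Ideal.algebraMap_quotient_residueField_mk]
    exact IsFractionRing.lift_algebraMap _ (Ideal.Quotient.mk p.asIdeal r)
  let α : A →ₐ[R] A ⧸ Q := Ideal.Quotient.mkₐ R Q
  let β : κ →ₐ[R] A ⧸ Q := { f₀ with commutes' := fun r => hf₀ r }
  let χ : C →+* A ⧸ Q := (Algebra.TensorProduct.lift α β fun x y => Commute.all _ _).toRingHom
  have hχ : χ.comp ψ = Ideal.Quotient.mk Q := RingHom.ext fun x => by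
    change Algebra.TensorProduct.lift α β (fun _ _ => Commute.all _ _) (x ⊗ₜ[R] (1 : κ)) = _
    simp [α]
  refine ⟨a, fun i hi => ?_⟩
  letI := χ.toAlgebra
  have hv : DRing.VanishesAbove K' c := fun j hj => (ModuleCat.extendScalars ψ).map_isZero (hc j hj)
  have hT' := (GrothLib.DR.hasTorAmplitudeIn_iff hv (GrothLib.DR.termwiseFlat_bc ψ hKflat) _ _).1 hT
    (A ⧸ Q) i (Or.inl hi)
  have h2 := ((GrothLib.DR.exactAt_bc_iff χ K' i).2 hT').of_iso (GrothLib.DR.bcCompIso ψ χ K).symm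
  rwa [hχ] at h2

/-- **Perfection from perfect fibres.** -/
theorem isPerfect_of_fibres {f : X ⟶ S} [∀ s : S, DCoh.HasLpull (f.fiberι s)]
    {E : DCoh.D X} (hE : ∀ m, DCoh.IsPseudoCoherentD m E)
    (h0 : ∀ x : X, ∃ (V : X.Opens) (a : ℤ), x ∈ V ∧ ((resD V.ι).obj E).IsGE a)
    (hfib : ∀ s : S, DCoh.IsPerfect ((DCoh.Lpull (f.fiberι s)).obj E)) :
    DCoh.IsPerfect E := by
  have hQ : DCoh.IsQCohD E := fun i => isQCoh_HD_of_pseudoCoherent (hE (i - 1)) (by omega)
  refine isPerfect_of_local fun x => ?_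
  obtain ⟨V, hV, hxV, -⟩ := exists_isAffineOpen_mem_and_subset (x := f x) (U := ⊤) trivial
  obtain ⟨U, hU, hx, hUV⟩ := exists_isAffineOpen_mem_and_subset (x := x) (U := f ⁻¹ᵁ V) hxV
  haveI := preservesFiniteLimits_tildeGen Γ(X, U)
  obtain ⟨M, ⟨eM⟩⟩ := exists_tildeD_rep hQ hU.fromSpec
  have hpc : DRing.IsPseudoCoherent' Γ(X, U) M := GrothLib.DR.isPseudoCoherent'_of_forall fun m =>
    (isPseudoCoherentD_tildeD_iff (A := Γ(X, U)) M m).1
      (isPseudoCoherentD_of_iso (isPseudoCoherentD_resD (hE m) hU.fromSpec) eM.symm)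
  obtain ⟨K, c, hc, hKf, ⟨eK⟩⟩ := hpc
  have hKflat : DRing.TermwiseFlat K :=
    GrothLib.DR.termwiseFlat_of_projective fun i => GrothLib.DR.projective_of_finiteFree hKf i
  let e : (resD hU.fromSpec).obj E ≅ (DCoh.tildeD Γ(X, U)).obj (DRing.toD K) :=
    eM.symm ≪≫ (DCoh.tildeD Γ(X, U)).mapIso eK.symm
  obtain ⟨a₀, ha₀⟩ := exists_isGE_of_compact (K := (resD hU.fromSpec).obj E) fun z => by
    obtain ⟨W, a, hy, hW⟩ := h0 (hU.fromSpec z)
    exact ⟨hU.fromSpec ⁻¹ᵁ W, a, hy, fun w hw =>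
      stalkGE_resD hU.fromSpec (stalkGE_of_isGE W.ι hW ⟨hU.fromSpec w, hw⟩)⟩
  have hex : ∀ i, i < a₀ → K.ExactAt i := fun i hi => by
    have hz : IsZero ((DerivedCategory.homologyFunctor _ i).obj (DRing.toD K)) := by
      rw [IsZero.iff_id_eq_zero]
      haveI := faithful_tildeGen Γ(X, U)
      refine (tilde.functor Γ(X, U)).map_injective ?_
      exact (((DerivedCategory.isZero_of_isGE ((resD hU.fromSpec).obj E) a₀ i hi)).of_iso
        ((HDTildeIso (R := Γ(X, U)) (DRing.toD K) i).symm ≪≫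
          (DerivedCategory.homologyFunctor _ i).mapIso e.symm)).eq_of_src _ _
    exact (exactAt_iff_isZero_homology _ _).2
      (hz.of_iso ((DerivedCategory.homologyFunctorFactors _ i).app K).symm)
  obtain ⟨a, ha, hflat⟩ := GrothLib.DualCx22.exists_flat_coker K hKf hex
    fun Q hQ' => haveI := hQ'; exists_residue_bound hU hV hUV hc hKflat e hfib Q
  have hT := GrothLib.DualCx22.hasTorAmplitudeIn_of_flat_coker K hKf hc (fun i hi => hex i (by omega)) hflat
  have hperf : DRing.IsPerfect Γ(X, U) (DRing.toD K) :=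
    GrothLib.DR.isPerfect_iff.2 ⟨⟨K, c, hc, hKf, ⟨Iso.refl _⟩⟩, a, _, hT⟩
  refine ⟨Spec Γ(X, U), hU.fromSpec, inferInstance, ?_, ?_⟩
  · rw [hU.range_fromSpec]; exact hx
  · exact isPerfect_of_iso ((isPerfect_tildeD_iff (A := Γ(X, U)) _).2 hperf) e.symm

end GrothLib.RelAmp22
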